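import Cfsg.Agent.Lib.CoThreeSp6.CoverCheck
import Cfsg.Agent.Lib.J2.Chain
import Cfsg.Agent.Lib.SchurMult.Sp62Hom
import Cfsg.Agent.Lib.GW.DoubleCover
import Cfsg.Agent.Lib.Classical.Symplectic
import Cfsg.Agent.S2093
import Cfsg.Prelude.Def_SporadicB

/-!
The coded centraliser is the non-split double cover of the symplectic group of dimension six over two elements, and
every such cover is isomorphic to it.
-/

set_option autoImplicit false
set_option maxRecDepth 20000

namespace Cfsg.Agent.CoThreeSp6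

open Cfsg Cfsg.Agent.PermCert Cfsg.Agent.SchurMult
open scoped commutatorElement

attribute [local irreducible] cCodes pCodes jointGens jointDerived jointLevels tCode uCode sp62Gens sp62Levels
  sp62Derived tWord commA commB spWords

/-- The joint action. -/
def join : Equiv.Perm (Fin 276) × Equiv.Perm (Fin 63) →* Equiv.Perm (Fin 339) :=
  ((finSumFinEquiv (m := 276) (n := 63)).permCongrHom).toMonoidHom.comp (Equiv.Perm.sumCongrHom (Fin 276) (Fin 63))

theorem join_left (a : Equiv.Perm (Fin 276)) (b : Equiv.Perm (Fin 63)) (i : Fin 276) :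
    join (a, b) (Fin.castAdd 63 i) = Fin.castAdd 63 (a i) := by
  show finSumFinEquiv (Sum.map a b (finSumFinEquiv.symm (Fin.castAdd 63 i))) = _
  erw [finSumFinEquiv_symm_apply_castAdd]
  rfl

theorem join_right (a : Equiv.Perm (Fin 276)) (b : Equiv.Perm (Fin 63)) (i : Fin 63) :
    join (a, b) (Fin.natAdd 276 i) = Fin.natAdd 276 (b i) := by
  show finSumFinEquiv (Sum.map a b (finSumFinEquiv.symm (Fin.natAdd 276 i))) = _
  erw [finSumFinEquiv_symm_apply_natAdd]
  rfl

theorem join_injective : Function.Injective join := fun _ _ h =>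
  Equiv.Perm.sumCongrHom_injective ((finSumFinEquiv (m := 276) (n := 63)).permCongrHom.injective h)

/-- The pair coded by two codes. -/
noncomputable def pr (q : Elt × Elt) : Equiv.Perm (Fin 276) × Equiv.Perm (Fin 63) :=
  (toPerm 9 276 q.1, toPerm 6 63 q.2)

theorem image_list {α β : Type*} (f : α → β) (l : List α) : f '' {x | x ∈ l} = {y | y ∈ l.map f} := by
  ext y
  simp [List.mem_map]

/-- The two actions together. -/
noncomputable def Joint : Subgroup (Equiv.Perm (Fin 276) × Equiv.Perm (Fin 63)) :=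
  Subgroup.closure {d | d ∈ (cCodes.zip pCodes).map pr}

theorem valid_c : ∀ e ∈ cCodes, validElt 9 276 e = true := by
  have h := c_ok.1
  simp only [okCodes, Bool.and_eq_true, List.all_eq_true] at h
  exact h.2

theorem valid_p : ∀ e ∈ pCodes, validElt 6 63 e = true := by
  have h := p_ok.1
  simp only [okCodes, Bool.and_eq_true, List.all_eq_true] at h
  exact h.2

theorem map_join : Joint.map join = genGroup 9 339 jointGens := by
  obtain ⟨hg, hc, hp, hs⟩ := joint_split
  have hl : ((cCodes.zip pCodes).map pr).map join = jointGens.map (toPerm 9 339) := by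
    refine List.ext_getElem (by simp [hg, hc, hp]) fun k h1 h2 => ?_
    rw [List.length_map] at h2
    have hkc : k < cCodes.length := by omega
    have hkp : k < pCodes.length := by omega
    have hk := List.all_eq_true.1 hs (jointGens[k], (cCodes[k], pCodes[k]))
      (List.mem_iff_getElem.2 ⟨k, by simp [hg, hc, hp]; omega, by simp⟩)
    simp only [splitOK, Bool.and_eq_true] at hk
    have hv := List.all_eq_true.1 p_ok.2.1 _ (List.getElem_mem h2)
    rw [List.getElem_map, List.getElem_map, List.getElem_map, List.getElem_zip]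
    refine Equiv.ext fun j => Fin.ext ?_
    rw [← (rep_toPerm hv j).1]
    refine Fin.addCases (m := 276) (n := 63) (fun i => ?_) (fun i => ?_) j
    · rw [pr, join_left, Fin.val_castAdd, ← (rep_toPerm (valid_c _ (List.getElem_mem hkc)) i).1]
      exact (Nat.beq_eq ▸ allBelow_spec _ _ hk.1 i i.2).symm
    · rw [pr, join_right, Fin.val_natAdd, Fin.val_natAdd,
        ← (rep_toPerm (valid_p _ (List.getElem_mem hkp)) i).1]
      exact (Nat.beq_eq ▸ allBelow_spec _ _ hk.2 i i.2).symm
  rw [Joint, genGroup, MonoidHom.map_closure]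
  congr 1
  rw [image_list, hl]

theorem card_Joint : Nat.card Joint = 2903040 := by
  rw [Nat.card_congr (Joint.equivMapOfInjective join join_injective).toEquiv, map_join, cert_card joint_cert,
    joint_order]

theorem map_fst : Joint.map (MonoidHom.fst _ _) = modelC := by
  rw [Joint, MonoidHom.map_closure, modelC, genGroup]
  congr 1
  have hl : ((cCodes.zip pCodes).map pr).map (fun d => d.1) = cCodes.map (toPerm 9 276) := by
    rw [List.map_map, show ((fun d => d.1) ∘ pr) = (toPerm 9 276) ∘ Prod.fst from rfl, ← List.map_map,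
      List.map_fst_zip (by rw [joint_split.2.1, joint_split.2.2.1])]
  rw [image_list, ← hl]
  rfl

theorem map_snd : Joint.map (MonoidHom.snd _ _) = genGroup 6 63 sp62Gens := by
  have h : Joint.map (MonoidHom.snd _ _) = genGroup 6 63 pCodes := by
    rw [Joint, MonoidHom.map_closure, genGroup]
    congr 1
    have hl : ((cCodes.zip pCodes).map pr).map (fun d => d.2) = pCodes.map (toPerm 6 63) := by
      rw [List.map_map, show ((fun d => d.2) ∘ pr) = (toPerm 6 63) ∘ Prod.snd from rfl, ← List.map_map,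
        List.map_snd_zip (by rw [joint_split.2.1, joint_split.2.2.1])]
    rw [image_list, ← hl]
    rfl
  rw [h]
  refine le_antisymm ((Subgroup.closure_le _).2 fun σ hσ => ?_) ((Subgroup.closure_le _).2 fun σ hσ => ?_)
  · obtain ⟨e, he, rfl⟩ := List.mem_map.1 hσ
    exact cert_mem sp62_cert (valid_p e he) (List.all_eq_true.1 p_ok.2.2 e he)
  · obtain ⟨e, he, rfl⟩ := List.mem_map.1 hσ
    obtain ⟨hl, hw⟩ := sp_words
    obtain ⟨k, hk, rfl⟩ := List.getElem_of_mem he
    have := List.all_eq_true.1 hw (sp62Gens[k], spWords[k]'(hl ▸ hk))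
      (List.mem_iff_getElem.2 ⟨k, by simp [hl] at hk ⊢; omega, by simp⟩)
    rw [eq_of_sameW p_ok.1 this]
    exact pG_mem_genGroup p_ok.1 _

theorem base_lt {l : CLevel} (hl : l ∈ jointLevels) : l.1 < 276 := by
  obtain ⟨h1, h2⟩ := joint_base
  obtain ⟨b, hb, e⟩ := List.any_eq_true.1 (List.all_eq_true.1 h1 l hl)
  have := List.all_eq_true.1 h2 b hb
  rw [Nat.blt_eq] at this
  rw [Nat.beq_eq] at e
  omega

theorem mem_interp_base {w n : ℕ} [NeZero n] : ∀ {L : List CLevel}
    {l : Level (Equiv.Perm (Fin n)) (Fin n)}, l ∈ interp w n L → ∃ l' ∈ L, l.1 = Fin.ofNat n l'.1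
  | [], l, h => by simp [interp] at h
  | (b, S, T) :: L, l, h => by
    rw [interp, List.mem_cons] at h
    rcases h with rfl | h
    · exact ⟨_, List.mem_cons_self, rfl⟩
    · obtain ⟨l', h1, h2⟩ := mem_interp_base h
      exact ⟨l', List.mem_cons_of_mem _ h1, h2⟩

/-- A joint element is determined by the images of the base. -/
theorem joint_eq_one {d : Equiv.Perm (Fin 276) × Equiv.Perm (Fin 63)} (hd : d ∈ Joint)
    (h : ∀ i : Fin 276, (i : ℕ) ∈ jointBase → d.1 i = i) : d = 1 := by
  refine join_injective ?_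
  rw [map_one]
  have hm : join d ∈ genGroup 9 339 jointGens := map_join ▸ Subgroup.mem_map.2 ⟨d, hd, rfl⟩
  refine J2.eq_one_of_fix (cert_good joint_cert).1 ((J2.cert_prodSet joint_cert _).1 hm) fun l hl => ?_
  obtain ⟨l', hl', e⟩ := mem_interp_base hl
  have hb := base_lt hl'
  obtain ⟨b, hb', eb⟩ := List.any_eq_true.1 (List.all_eq_true.1 joint_base.1 l' hl')
  rw [Nat.beq_eq] at eb
  have hc : l.1 = Fin.castAdd 63 (⟨l'.1, hb⟩ : Fin 276) := by
    rw [e]
    exact Fin.ext (by simp [Fin.val_ofNat]; omega)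
  rw [hc, Equiv.Perm.smul_def, show d = (d.1, d.2) from rfl, join_left, h ⟨l'.1, hb⟩ (by simpa [eb] using hb')]

theorem fst_inj {d d' : Equiv.Perm (Fin 276) × Equiv.Perm (Fin 63)} (hd : d ∈ Joint) (hd' : d' ∈ Joint)
    (h : d.1 = d'.1) : d = d' :=
  inv_mul_eq_one.1 (joint_eq_one (mul_mem (inv_mem hd) hd') fun i _ => by simp [h])

/-- The restriction of the projection. -/
noncomputable def toModel : Joint →* modelC :=
  ((MonoidHom.fst _ _).comp Joint.subtype).codRestrict modelC fun d =>
    map_fst ▸ Subgroup.mem_map.2 ⟨d.1, d.2, rfl⟩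

theorem toModel_bijective : Function.Bijective toModel := by
  refine ⟨fun a b h => Subtype.ext (fst_inj a.2 b.2 (congrArg Subtype.val h)), fun x => ?_⟩
  have hx : (x : Equiv.Perm (Fin 276)) ∈ Joint.map (MonoidHom.fst _ _) := by rw [map_fst]; exact x.2
  obtain ⟨d, hd, e⟩ := Subgroup.mem_map.1 hx
  exact ⟨⟨d, hd⟩, Subtype.ext e⟩

/-- The action of the centraliser on 63 points. -/
noncomputable def psi : modelC →* Equiv.Perm (Fin 63) :=
  ((MonoidHom.snd _ _).comp Joint.subtype).comp (MulEquiv.ofBijective toModel toModel_bijective).symm.toMonoidHom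

theorem psi_spec {x : modelC} {b : Equiv.Perm (Fin 63)} (h : ((x : Equiv.Perm (Fin 276)), b) ∈ Joint) :
    psi x = b := by
  have e : (MulEquiv.ofBijective toModel toModel_bijective).symm x = ⟨_, h⟩ :=
    (MulEquiv.symm_apply_eq _).2 (Subtype.ext rfl)
  show ((MulEquiv.ofBijective toModel toModel_bijective).symm x : Joint).1.2 = b
  rw [e]

theorem range_psi : psi.range = genGroup 6 63 sp62Gens := by
  rw [← map_snd]
  refine le_antisymm ?_ ?_
  · rintro _ ⟨x, rfl⟩
    exact Subgroup.mem_map.2 ⟨_, ((MulEquiv.ofBijective toModel toModel_bijective).symm x).2, rfl⟩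
  · rintro _ ⟨d, hd, rfl⟩
    exact ⟨toModel ⟨d, hd⟩, psi_spec hd⟩

theorem mem_modelC_of_pair {a : Equiv.Perm (Fin 276)} {b : Equiv.Perm (Fin 63)} (h : (a, b) ∈ Joint) : a ∈ modelC :=
  map_fst ▸ Subgroup.mem_map.2 ⟨_, h, rfl⟩

theorem pair_mem (l : List ℕ) : (pG 9 276 cCodes l, pG 6 63 pCodes l) ∈ Joint := by
  induction l with
  | nil => exact one_mem _
  | cons k l ih =>
    rw [pG_cons, pG_cons]
    refine (mul_mem ?_ ih : (toPerm 9 276 (cCodes.getD k (one 9 276)), toPerm 6 63 (pCodes.getD k (one 6 63))) *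
      (pG 9 276 cCodes l, pG 6 63 pCodes l) ∈ Joint)
    have hc := joint_split.2.1
    have hp := joint_split.2.2.1
    rcases Nat.lt_or_ge k 7 with hk | hk
    · rw [List.getD_eq_getElem _ _ (by omega), List.getD_eq_getElem _ _ (by omega)]
      exact Subgroup.subset_closure (List.mem_map.2 ⟨(cCodes[k], pCodes[k]),
        List.mem_iff_getElem.2 ⟨k, by simp [hc, hp]; omega, by simp⟩, rfl⟩)
    · rw [List.getD_eq_default _ _ (by omega), List.getD_eq_default _ _ (by omega), toPerm_one c_ok.1,
        toPerm_one p_ok.1]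
      exact one_mem _

theorem pG_mem_modelC (l : List ℕ) : pG 9 276 cCodes l ∈ modelC := mem_modelC_of_pair (pair_mem l)

/-- An element of the centraliser is known from the images of the base. -/
theorem eq_of_jointBase {x y : Equiv.Perm (Fin 276)} (hx : x ∈ modelC) (hy : y ∈ modelC)
    (h : ∀ i : Fin 276, (i : ℕ) ∈ jointBase → x i = y i) : x = y := by
  rw [← map_fst] at hx hy
  obtain ⟨d, hd, rfl⟩ := Subgroup.mem_map.1 hx
  obtain ⟨d', hd', rfl⟩ := Subgroup.mem_map.1 hy
  refine congrArg Prod.fst (inv_mul_eq_one.1 (joint_eq_one (mul_mem (inv_mem hd') hd) fun i hi => ?_)).symm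
  rw [Prod.fst_mul, Prod.fst_inv, Equiv.Perm.mul_apply, Equiv.Perm.inv_def, Equiv.symm_apply_eq]
  exact h i hi

/-- The order of the model. -/
theorem card_modelC : Nat.card modelC = 2903040 :=
  (Nat.card_congr (Equiv.ofBijective _ toModel_bijective)).symm.trans card_Joint

/-- The central involution. -/
noncomputable def tPerm : Equiv.Perm (Fin 276) := toPerm 9 276 tCode

theorem tPerm_eq : tPerm = pG 9 276 cCodes tWord := eq_of_sameW c_ok.1 t_words.1

theorem tPerm_mem : tPerm ∈ modelC := tPerm_eq ▸ pG_mem_modelC _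

theorem tPerm_ne : tPerm ≠ 1 := by
  intro h
  obtain ⟨b, hb, e⟩ := List.any_eq_true.1 t_words.2.2
  have hlt : b < 276 := by
    have := List.all_eq_true.1 joint_base.2 b hb
    rwa [Nat.blt_eq] at this
  have := (rep_toPerm c_ok.2.1 (⟨b, hlt⟩ : Fin 276)).1
  rw [show toPerm 9 276 tCode = 1 from h] at this
  rw [Equiv.Perm.one_apply] at this
  rw [Bool.not_eq_true'] at e
  rw [show get 9 tCode.1 b = b from this] at e
  simp at e

theorem tPerm_central {x : Equiv.Perm (Fin 276)} (hx : x ∈ modelC) : x * tPerm = tPerm * x := by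
  suffices modelC ≤ Subgroup.centralizer ({tPerm} : Set (Equiv.Perm (Fin 276))) from
    Subgroup.mem_centralizer_singleton_iff.1 (this hx)
  rw [modelC, genGroup, Subgroup.closure_le]
  intro σ hσ
  obtain ⟨e, he, rfl⟩ := List.mem_map.1 hσ
  have hem : toPerm 9 276 e ∈ modelC := Subgroup.subset_closure (List.mem_map.2 ⟨e, he, rfl⟩)
  refine Subgroup.mem_centralizer_singleton_iff.2 (eq_of_jointBase (mul_mem hem tPerm_mem) (mul_mem tPerm_mem hem)
    fun i hi => Fin.ext ?_)
  have := List.all_eq_true.1 (List.all_eq_true.1 t_comm.1 e he) i hi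
  rw [Nat.beq_eq, (rep_toPerm c_ok.2.1 i).1, (rep_toPerm (valid_c e he) i).1,
    (rep_toPerm (valid_c e he) _).1, (rep_toPerm c_ok.2.1 _).1] at this
  exact this

theorem psi_tPerm : psi ⟨tPerm, tPerm_mem⟩ = 1 := by
  refine psi_spec ?_
  have h := pair_mem tWord
  rw [← tPerm_eq, ← eq_of_sameW p_ok.1 t_words.2.1, toPerm_one p_ok.1] at h
  exact h

/-- A map on the symplectic group with kernel generated by the central involution. -/
theorem exists_proj : ∃ π : modelC →* Matrix.symplecticGroup (Fin 3) (ZMod 2),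
    Function.Surjective π ∧ Nat.card π.ker = 2 ∧ π ⟨tPerm, tPerm_mem⟩ = 1 ∧
      ∀ x ∈ π.ker, (x : Equiv.Perm (Fin 276)) = 1 ∨ (x : Equiv.Perm (Fin 276)) = tPerm := by
  suffices h : ∃ π : modelC →* Matrix.symplecticGroup (Fin 3) (ZMod 2),
      Function.Surjective π ∧ Nat.card π.ker = 2 ∧ π ⟨tPerm, tPerm_mem⟩ = 1 by
    obtain ⟨π, hπ, hk, ht⟩ := h
    refine ⟨π, hπ, hk, ht, fun x hx => ?_⟩
    have hle : Subgroup.zpowers (⟨tPerm, tPerm_mem⟩ : modelC) ≤ π.ker := Subgroup.zpowers_le.2 ht
    have hone : orderOf (⟨tPerm, tPerm_mem⟩ : modelC) ≠ 1 := fun h =>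
      tPerm_ne (congrArg Subtype.val (orderOf_eq_one_iff.1 h))
    have hdvd := Subgroup.card_dvd_of_le hle
    rw [Nat.card_zpowers, hk] at hdvd
    have hord : orderOf (⟨tPerm, tPerm_mem⟩ : modelC) = 2 :=
      ((Nat.dvd_prime Nat.prime_two).1 hdvd).resolve_left hone
    rw [← Subgroup.eq_of_le_of_card_ge hle (by rw [Nat.card_zpowers, hord, hk])] at hx
    obtain ⟨n, rfl⟩ := Subgroup.mem_zpowers_iff.1 hx
    rw [← zpow_mod_orderOf, hord]
    rcases Int.emod_two_eq_zero_or_one n with h | h <;> simp [h]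
  haveI : Fact (Nat.Prime 2) := ⟨Nat.prime_two⟩
  obtain ⟨φ, hφ, hr⟩ := exists_sp62_hom (F := ZMod 2) (ZMod.card 2)
  let χ : modelC →* φ.range := psi.codRestrict φ.range fun x => by
    rw [hr, ← range_psi]
    exact ⟨x, rfl⟩
  have hs : Function.Surjective χ := by
    rintro ⟨y, hy⟩
    rw [hr, ← range_psi] at hy
    obtain ⟨x, rfl⟩ := hy
    exact ⟨x, rfl⟩
  refine ⟨(MonoidHom.ofInjective hφ).symm.toMonoidHom.comp χ,
    (MonoidHom.ofInjective hφ).symm.surjective.comp hs, ?_, ?_⟩
  · have hk : ((MonoidHom.ofInjective hφ).symm.toMonoidHom.comp χ).ker = psi.ker := by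
      ext x
      rw [MonoidHom.mem_ker, MonoidHom.mem_ker, MonoidHom.comp_apply, MulEquiv.coe_toMonoidHom,
        MulEquiv.map_eq_one_iff]
      exact ⟨fun h => congrArg Subtype.val h, fun h => Subtype.ext h⟩
    have h := Subgroup.card_mul_index psi.ker
    rw [Subgroup.index_ker, card_modelC, range_psi, cert_card sp62_cert, sp62_order] at h
    rw [hk]
    exact Nat.eq_of_mul_eq_mul_right (by norm_num : 0 < 1451520) (h.trans (by norm_num))
  · rw [MonoidHom.comp_apply, MulEquiv.coe_toMonoidHom, MulEquiv.map_eq_one_iff]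
    exact Subtype.ext psi_tPerm

theorem commutator_spTwo : commutator (Matrix.symplecticGroup (Fin 3) (ZMod 2)) = ⊤ := by
  haveI : Fact (Nat.Prime 2) := ⟨Nat.prime_two⟩
  exact ClassicalSp.commutator_sp (Or.inl le_rfl)

theorem center_spTwo : Subgroup.center (Matrix.symplecticGroup (Fin 3) (ZMod 2)) = ⊥ := by
  haveI : Fact (Nat.Prime 2) := ⟨Nat.prime_two⟩
  refine Subgroup.card_eq_one.1 ?_
  rw [ClassicalSp.card_center_sp (by norm_num), Nat.card_zmod]
  decide

theorem multiplier_spTwo : HasCyclicSchurMultiplier (Matrix.symplecticGroup (Fin 3) (ZMod 2)) 2 := by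
  haveI : Fact (Nat.Prime 2) := ⟨Nat.prime_two⟩
  have e : Cfsg.PSp 3 (ZMod 2) ≃* Matrix.symplecticGroup (Fin 3) (ZMod 2) :=
    (QuotientGroup.quotientMulEquivOfEq center_spTwo).trans QuotientGroup.quotientBot
  exact Schur.hasCyclicSchurMultiplier_of_mulEquiv e (Cfsg.Agent.S2093.result (ZMod.card 2))

/-- The centre of the model. -/
theorem center_modelC (x : modelC) : x ∈ Subgroup.center modelC ↔
    (x : Equiv.Perm (Fin 276)) = 1 ∨ (x : Equiv.Perm (Fin 276)) = toPerm 9 276 tCode := by
  obtain ⟨π, hπ, hk, ht, hcases⟩ := exists_proj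
  constructor
  · intro hx
    have hx1 : π x ∈ Subgroup.center (Matrix.symplecticGroup (Fin 3) (ZMod 2)) :=
      Subgroup.mem_center_iff.2 fun y => by
        obtain ⟨z, rfl⟩ := hπ y
        rw [← map_mul, ← map_mul, Subgroup.mem_center_iff.1 hx z]
    rw [center_spTwo, Subgroup.mem_bot] at hx1
    exact hcases x hx1
  · intro h
    refine Subgroup.mem_center_iff.2 fun y => Subtype.ext ?_
    rcases h with h | h
    · show (y : Equiv.Perm (Fin 276)) * x = x * y
      rw [h, one_mul, mul_one]
    · show (y : Equiv.Perm (Fin 276)) * x = x * y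
      rw [h]
      exact tPerm_central y.2

/-- The model is perfect. -/
theorem commutator_modelC : commutator modelC = ⊤ := by
  obtain ⟨π, hπ, hk, ht, hcases⟩ := exists_proj
  have htc : (⟨tPerm, tPerm_mem⟩ : modelC) ∈ commutator modelC := by
    have h : pG 9 276 cCodes (commA ++ commB) = pG 9 276 cCodes (tWord ++ commB ++ commA) :=
      eq_of_jointBase (pG_mem_modelC _) (pG_mem_modelC _) fun i hi => Fin.ext (by
        rw [pG_apply c_ok.1, pG_apply c_ok.1]
        exact Nat.beq_eq ▸ List.all_eq_true.1 t_comm.2 i hi)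
    rw [pG_append, pG_append, pG_append, ← tPerm_eq] at h
    have e : (⟨tPerm, tPerm_mem⟩ : modelC) =
        ⁅(⟨_, pG_mem_modelC commA⟩ : modelC), ⟨_, pG_mem_modelC commB⟩⁆ := Subtype.ext (by
      show tPerm = ⁅pG 9 276 cCodes commA, pG 9 276 cCodes commB⁆
      rw [commutatorElement_def, h]
      group)
    rw [e]
    exact Subgroup.commutator_mem_commutator (Subgroup.mem_top _) (Subgroup.mem_top _)
  refine eq_top_iff.2 fun x _ => ?_
  have hmap : (commutator modelC).map π = ⊤ := by
    rw [commutator_def, Subgroup.map_commutator, Subgroup.map_top_of_surjective π hπ, ← commutator_def,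
      commutator_spTwo]
  obtain ⟨c, hc, ec⟩ := Subgroup.mem_map.1 (hmap ▸ Subgroup.mem_top (π x))
  have hxc : x * c⁻¹ ∈ π.ker := by rw [MonoidHom.mem_ker, map_mul, map_inv, ec, mul_inv_cancel]
  have hmem : x * c⁻¹ ∈ commutator modelC := by
    rcases hcases _ hxc with h | h
    · rw [show x * c⁻¹ = 1 from Subtype.ext h]; exact one_mem _
    · rw [show x * c⁻¹ = ⟨tPerm, tPerm_mem⟩ from Subtype.ext h]; exact htc
  simpa using mul_mem hmem hc

universe u

/-- Every non-split double cover of the symplectic group of dimension six over two elements is the model. -/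
theorem nonempty_modelC_equiv {H : Type u} [Group H]
    (h : Cfsg.IsNonsplitDoubleCover H (Matrix.symplecticGroup (Fin 3) (ZMod 2))) : Nonempty (H ≃* modelC) := by
  obtain ⟨hz, ⟨e⟩, hns⟩ := h
  haveI : Finite (Subgroup.center H) := Nat.finite_of_card_ne_zero (by omega)
  haveI : Finite (H ⧸ Subgroup.center H) := Finite.of_equiv _ e.symm.toEquiv
  haveI : Finite H := Finite.of_subgroup_quotient (Subgroup.center H)
  set σ₁ := QuotientGroup.mk' (Subgroup.center H) with hσ₁
  have hk₁ : σ₁.ker = Subgroup.center H := QuotientGroup.ker_mk' _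
  have hQ : commutator (H ⧸ Subgroup.center H) = ⊤ := by
    have h := congrArg (Subgroup.map e.symm.toMonoidHom) commutator_spTwo
    rw [commutator_def, Subgroup.map_commutator, Subgroup.map_top_of_surjective _
      (e.symm.surjective : Function.Surjective e.symm.toMonoidHom)] at h
    rwa [commutator_def]
  have hle : Subgroup.center H ≤ commutator H := by
    by_contra hle
    have hlift : ∀ x : H, ∃ z ∈ Subgroup.center H, ∃ c ∈ commutator H, z * c = x := fun x => by
      have hmap : (commutator H).map σ₁ = ⊤ := by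
        rw [commutator_def, Subgroup.map_commutator,
          Subgroup.map_top_of_surjective σ₁ (QuotientGroup.mk'_surjective _), ← commutator_def, hQ]
      obtain ⟨c, hc, ec⟩ := Subgroup.mem_map.1 (hmap ▸ Subgroup.mem_top (σ₁ x))
      refine ⟨x * c⁻¹, hk₁ ▸ ?_, c, hc, inv_mul_cancel_right x c⟩
      rw [MonoidHom.mem_ker, map_mul, map_inv, ec, mul_inv_cancel]
    have hdis : Subgroup.center H ⊓ commutator H = ⊥ := by
      rw [← Subgroup.card_eq_one]
      refine ((Nat.dvd_prime Nat.prime_two).1 (hz ▸ Subgroup.card_dvd_of_le inf_le_left)).resolve_right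
        fun h2 => hle ?_
      exact inf_eq_left.1 (Subgroup.eq_of_le_of_card_ge inf_le_left (by rw [h2, hz]))
    exact hns (commutator H) (Subgroup.isComplement'_of_disjoint_and_mul_eq_univ
      (disjoint_iff.2 hdis) (Set.eq_univ_of_forall fun x => by
        obtain ⟨z, hzm, c, hc, rfl⟩ := hlift x
        exact Set.mul_mem_mul hzm hc))
  obtain ⟨π, hπ, hk, -, hcases⟩ := exists_proj
  let d : ULift.{u} modelC ≃* modelC := MulEquiv.ulift
  set σ₂ : ULift.{u} modelC →* H ⧸ Subgroup.center H :=
    e.symm.toMonoidHom.comp (π.comp d.toMonoidHom) with hσ₂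
  have hk₂ : σ₂.ker = π.ker.comap d.toMonoidHom := by
    ext x
    rw [MonoidHom.mem_ker, Subgroup.mem_comap, MonoidHom.mem_ker]
    exact map_eq_one_iff _ e.symm.injective
  have hcen : π.ker ≤ Subgroup.center modelC := fun x hx => (center_modelC x).2 (hcases x hx)
  have hst : Cfsg.IsStemExtension σ₂ := by
    refine ⟨e.symm.surjective.comp (hπ.comp d.surjective), ?_, ?_⟩
    · rw [hk₂]
      exact fun x hx => Subgroup.mem_center_iff.2 fun y => d.injective (by
        rw [map_mul, map_mul]; exact Subgroup.mem_center_iff.1 (hcen hx) (d y))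
    · refine le_top.trans (le_of_eq ?_)
      have h := congrArg (Subgroup.map d.symm.toMonoidHom) commutator_modelC
      rw [commutator_def, Subgroup.map_commutator,
        Subgroup.map_top_of_surjective _ (d.symm.surjective : Function.Surjective d.symm.toMonoidHom)] at h
      rw [commutator_def]
      exact h.symm
  obtain ⟨e'⟩ := GW.cover_unique_cyclic hQ (Schur.hasCyclicSchurMultiplier_of_mulEquiv e.symm multiplier_spTwo) σ₁
    ⟨QuotientGroup.mk'_surjective _, hk₁.le, hk₁.le.trans hle⟩ σ₂ hst (by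
      rw [hk₁, hz, hk₂, Nat.card_congr (Equiv.subtypeEquiv d.toEquiv (fun _ => Iff.rfl) :
        (π.ker.comap d.toMonoidHom : Subgroup _) ≃ π.ker), hk])
  exact ⟨e'.trans d⟩

end Cfsg.Agent.CoThreeSp6
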