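import Cfsg.Agent.Lib.CoThreeSp6.RelsCheck
import Cfsg.Agent.Lib.SporPerm.Co3Data

/-! Kernel checks for the completion. -/

set_option autoImplicit false
set_option maxRecDepth 100000
set_option Elab.async false

namespace Cfsg.Agent.CoThreeSp6

open Cfsg.Agent.PermCert

/-- The codes of the eight generators. -/
noncomputable def genCodes : List Elt := (List.range 8).map genCode

theorem co3_gens_words :
    (SporPerm.co3Gens.zip co3Words).all (fun q => validElt 9 276 q.1 &&
      Nat.beq (PermCert.mul 9 276 q.1 (one 9 276)).1 (wordC genCodes q.2).1) = true ∧
    co3Words.length = SporPerm.co3Gens.length := by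
  decide +kernel

theorem rels_model : (allRels.all fun w => trivialWord genCodes w && below 8 w) = true := by decide +kernel

theorem big_subs : (Big.P.subs.all fun w => match w with
    | [x] => (Nat.blt x 6 || Nat.beq x 7)
    | _ => false) = true := by decide +kernel

theorem mcl_subs : (McLTwoA8.Whole.P.subs.all fun w => match w with
    | [x] => Nat.blt x 6
    | _ => false) = true := by decide +kernel

theorem mcl_base_lt : (McLTwoA8.Whole.base.all fun w => below 7 w) = true := by decide +kernel

theorem sizes : Big.P.k = 8 ∧ McLTwoA8.Whole.P.k = 7 := by decide +kernel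

end Cfsg.Agent.CoThreeSp6
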