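import Cfsg.Agent.Lib.CoThreeSp6.SixSch

/-! Six of the involutions generate a group of order 40320. -/

set_option autoImplicit false
set_option maxRecDepth 100000
set_option Elab.async false

namespace Cfsg.Agent.CoThreeSp6

open Cfsg.Agent.PermCert

theorem six_rest : ((cCodes.take 6).all fun g => validElt 9 276 g) = true ∧
    checkDerived 9 276 (cCodes.take 6) sixDerived = true ∧
    ((topCodes sixLevels).all fun s => memCode s (cCodes.take 6 ++ sixDerived.map fun d => d.1)) = true ∧
    checkLevels 9 276 [sixLevel1, sixLevel2] = true ∧ Nat.blt sixLevel0.1 276 = true ∧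
    (match sixLevel0.2.2 with
     | [] => false
     | (x, e, _, _) :: rest =>
        Nat.beq e.1 (idCode 9 276) && Nat.beq e.2 (idCode 9 276) && Nat.beq x sixLevel0.1 &&
          checkTree 9 276 sixLevel0.1 sixLevel0.2.1 [e] rest) = true ∧
    distinctKeys (sixLevel0.2.2.map fun t => t.1) = true ∧
    ((topCodes [sixLevel1, sixLevel2]).all fun s =>
      memCode s sixLevel0.2.1 && Nat.beq (get 9 s.1 sixLevel0.1) sixLevel0.1) = true ∧
    ((cCodes.take 6).all fun g => sift 9 276 sixLevels g.1) = true ∧ sixLevel0.2.1.length = 9 := by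
  decide +kernel

theorem six_order : certOrder sixLevels = 40320 := by decide +kernel

attribute [local irreducible] sixLevel0 sixLevel1 sixLevel2 sixDerived cCodes

theorem six_sch : ∀ s ∈ sixLevel0.2.1, (sixLevel0.2.2.all fun t =>
      match sixLevel0.2.2.find? (fun t' => Nat.beq t'.1 (get 9 s.1 t.1)) with
      | none => false
      | some t' => sift 9 276 [sixLevel1, sixLevel2] (comp 9 276 t'.2.1.2 (comp 9 276 s.1 t.2.1.1))) = true := by
  intro s hs
  obtain ⟨k, hk, rfl⟩ := List.getElem_of_mem hs
  have hlen := six_rest.2.2.2.2.2.2.2.2.2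
  have key : sixSch k = true := by
    have hk9 : k < 9 := hlen ▸ hk
    interval_cases k
    exacts [sixSch_0, sixSch_1, sixSch_2, sixSch_3, sixSch_4, sixSch_5, sixSch_6, sixSch_7, sixSch_8]
  unfold sixSch at key
  rw [List.getD_eq_getElem _ _ hk] at key
  exact key

theorem six_cert : checkCert 9 276 (cCodes.take 6) sixDerived sixLevels = true := by
  obtain ⟨h1, h2, h3, h4, h5, h6, h7, h8, h9, -⟩ := six_rest
  have hlev : checkLevels 9 276 sixLevels = true := by
    rw [show sixLevels = (sixLevel0.1, sixLevel0.2.1, sixLevel0.2.2) :: [sixLevel1, sixLevel2] from rfl,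
      checkLevels.eq_def]
    dsimp only
    simp only [Bool.and_eq_true]
    exact ⟨⟨⟨⟨⟨h4, h5⟩, h6⟩, h7⟩, h8⟩, List.all_eq_true.2 six_sch⟩
  simp only [checkCert, Bool.and_eq_true]
  exact ⟨⟨⟨⟨⟨Nat.ble_eq_true_of_le (by norm_num), h1⟩, h2⟩, h3⟩, hlev⟩, h9⟩

theorem card_six : Nat.card (genGroup 9 276 (cCodes.take 6)) = 40320 := (cert_card six_cert).trans six_order

end Cfsg.Agent.CoThreeSp6
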