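import Cfsg.Agent.Lib.CoThreeSp6.Rels
import Cfsg.Agent.Lib.CoThreeSp6.CompleteCert
import Cfsg.Agent.Lib.CoThreeSp6.Big.Cert
import Cfsg.Agent.Lib.CoThreeSp6.SixCert
import Cfsg.Agent.Lib.McLTwoA8.Whole.Cert
import Cfsg.Agent.Lib.Leech.SporGroups

/-!
The completion: the eight generators and their relators generate a group isomorphic to the coded Co3, containing
the centraliser of the involution.
-/

set_option autoImplicit false
set_option maxRecDepth 100000
set_option Elab.async false

namespace Cfsg.Agent.CoThreeSp6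

open Cfsg Cfsg.Agent.PermCert
open Cfsg.Agent.CosetCert (wprod)
open Cfsg.Agent.McLInvol (fwd_comp fwd_id)
open Cfsg.Agent.PermAut (Fwd fwd_rep)

noncomputable section

attribute [local irreducible] cCodes sCode tCode uCode SporPerm.co3Gens SporPerm.co3Levels SporPerm.co3Derived
  Big.base Big.tab Big.tree Big.phases Big.hints Big.rots McLTwoA8.Whole.base McLTwoA8.Whole.tab McLTwoA8.Whole.tree
  McLTwoA8.Whole.phases McLTwoA8.Whole.hints McLTwoA8.Whole.rots PermCert.toPerm

theorem card_MG3 : Nat.card MG3 = 495766656000 := (cert_card SporPerm.co3_cert).trans SporPerm.co3_order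

theorem rep_genCodes (w : List ℕ) (hw : below 8 w = true) : Rep 9 (wordC genCodes w) (wprod genM w) := by
  have h := rep_codes (List.range 8) w
  have e : wprod (fun x => genM ((List.range 8).getD x 8)) w = wprod genM w := by
    unfold CosetCert.wprod
    refine congrArg List.prod (List.map_congr_left fun x hx => ?_)
    rw [List.getD_eq_getElem _ _ (by simpa using below_iff.1 hw x hx), List.getElem_range]
  rwa [e] at h

theorem relators_genM {w : List ℕ} (hw : w ∈ allRels) : wprod genM w = 1 := by
  have h := List.all_eq_true.1 rels_model w hw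
  rw [Bool.and_eq_true] at h
  exact eq_one_of_trivialWord h.1 (rep_genCodes w h.2)

/-- The coded Co3 is generated by the eight. -/
theorem MG3_le : MG3 ≤ Subgroup.closure (genM '' {x | x < 8}) := by
  refine (Subgroup.closure_le _).2 fun σ hσ => ?_
  obtain ⟨g, hg, rfl⟩ := List.mem_map.1 hσ
  obtain ⟨h2, hl⟩ := co3_gens_words
  obtain ⟨i, hi, rfl⟩ := List.getElem_of_mem hg
  have hz : (SporPerm.co3Gens[i], co3Words[i]'(hl ▸ hi)) ∈ SporPerm.co3Gens.zip co3Words :=
    List.mem_iff_getElem.2 ⟨i, by simp [hl, hi], by simp⟩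
  have h := List.all_eq_true.1 h2 _ hz
  rw [Bool.and_eq_true, Nat.beq_eq] at h
  obtain ⟨τ, hτ, hr⟩ := rep_wordC (K := Subgroup.closure (genM '' {x | x < 8})) (gens := genCodes) (fun a ha => by
    obtain ⟨x, hx, rfl⟩ := List.mem_map.1 ha
    exact ⟨genM x, Subgroup.subset_closure ⟨x, List.mem_range.1 hx, rfl⟩, rep_genCode x⟩) (co3Words[i]'(hl ▸ hi))
  rw [fwd_eq (fwd_comp (fwd_toPerm h.1) (fwd_id (by norm_num))) (fwd_rep hr) h.2 |>.symm, mul_one] at hτ
  exact hτ

theorem modelC_eq : Subgroup.closure {a : modelC | ∃ x, x < 7 ∧ (a : Equiv.Perm (Fin 276)) = genM x} = ⊤ := by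
  apply Subgroup.map_injective (Subgroup.subtype_injective modelC)
  rw [MonoidHom.map_closure, ← MonoidHom.range_eq_map, Subgroup.range_subtype]
  refine le_antisymm ((Subgroup.closure_le _).2 ?_) ?_
  · rintro _ ⟨a, -, rfl⟩
    exact a.2
  · refine (Subgroup.closure_le _).2 fun σ hσ => ?_
    obtain ⟨e, he, rfl⟩ := List.mem_map.1 hσ
    obtain ⟨x, hx, rfl⟩ := List.getElem_of_mem he
    have hx7 : x < 7 := cCodes_length ▸ hx
    have hgx : genM x = toPerm 9 276 (cCodes[x]) := by rw [genM, if_pos hx7, List.getD_eq_getElem _ _ hx]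
    exact Subgroup.subset_closure ⟨⟨_, genM_mem hx7⟩, ⟨x, hx7, rfl⟩, hgx⟩

theorem map_wprod_eight {A B : Type*} [Group A] [Group B] (f : A →* B) (gen : ℕ → A) (w : List ℕ) :
    f (wprod gen w) = wprod (fun x => f (gen x)) w := by
  rw [CosetCert.wprod, CosetCert.wprod, map_list_prod, List.map_map]
  rfl

variable {G : Type*} [Group G] {t : G} (S : Setup G t)

/-- The inverse of the identification, into the group. -/
def Setup.back : modelC →* G := (Subgroup.centralizer ({t} : Set G)).subtype.comp S.φ.symm.toMonoidHom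

/-- A generator with its model. -/
def Setup.pair (x : ℕ) : G × Equiv.Perm (Fin 276) := (S.gen x, genM x)

theorem Setup.pair_sq (x : ℕ) : S.pair x * S.pair x = 1 := Prod.ext (S.gen_sq x) (genM_square x)

theorem Setup.wprod_pair (v : List ℕ) : wprod S.pair v = (wprod S.gen v, wprod genM v) := by
  induction v with
  | nil => rfl
  | cons a v ih =>
    rw [wprod_cons, wprod_cons, wprod_cons, ih]
    rfl

/-- A coset enumeration bounds the subdirect product of a list of generators. -/
theorem card_closure_le {P : CosetCert.Params} (gP : ℕ → G × Equiv.Perm (Fin 276)) (hsq : ∀ x, gP x * gP x = 1)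
    {base : List (List ℕ)} (hbase : ∀ w ∈ base, wprod gP w = 1 ∧ ∀ x ∈ w, x < P.k)
    {hints : List (ℕ × ℕ × Bool)} (hrots : CosetCert.rotsOK base P.rots.entries hints = true)
    (K : Subgroup (G × Equiv.Perm (Fin 276))) [Finite K] {c : ℕ} (hK : Nat.card K ≤ c)
    (hsubs : ∀ w ∈ P.subs, ∃ x, w = [x] ∧ x < P.k ∧ gP x ∈ K) {n : ℕ} {tree : List ℕ}
    {phases : List CosetCert.Phase} (hcert : CosetCert.checkCert P n tree phases = true)
    (htab : CosetCert.tableOK P n = true) (hn : 0 < n) :
    Nat.card (Subgroup.closure (gP '' {x | x < P.k})) ≤ c * n := by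
  classical
  let F := Subgroup.closure (gP '' {x | x < P.k})
  let fg : ℕ → F := fun x => if h : x < P.k then ⟨gP x, Subgroup.subset_closure ⟨x, h, rfl⟩⟩ else 1
  have hfg : ∀ {x : ℕ}, x < P.k → (fg x : G × Equiv.Perm (Fin 276)) = gP x := fun {x} h => by
    simp only [fg, dif_pos h]
  have hval : ∀ v : List ℕ, (∀ x ∈ v, x < P.k) → ((wprod fg v : F) : G × Equiv.Perm (Fin 276)) = wprod gP v := by
    intro v
    induction v with
    | nil => intro _; rfl
    | cons a v ih =>
      intro h
      rw [wprod_cons, wprod_cons, Subgroup.coe_mul, ih fun x hx => h x (List.mem_cons_of_mem _ hx),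
        hfg (h a List.mem_cons_self)]
  have hfinv : ∀ x, fg x * fg x = 1 := by
    intro x
    by_cases h : x < P.k
    · refine Subtype.ext ?_
      rw [Subgroup.coe_mul, hfg h, hsq]
      rfl
    · simp only [fg, dif_neg h, one_mul]
  have hfgen : Subgroup.closure (fg '' {x | x < P.k}) = ⊤ := by
    apply Subgroup.map_injective (Subgroup.subtype_injective F)
    rw [MonoidHom.map_closure, ← MonoidHom.range_eq_map, Subgroup.range_subtype, Set.image_image]
    exact congrArg Subgroup.closure (Set.image_congr fun x hx => hfg hx)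
  obtain ⟨-, hidx, -⟩ := CosetCert.index_bound (P := P) hfinv hfgen
    (fun w hw => Subtype.ext ((hval w (hbase w hw).2).trans (hbase w hw).1)) hrots (H := K.subgroupOf F)
    (fun w hw => by
      obtain ⟨x, rfl, hx, hxK⟩ := hsubs w hw
      rw [Subgroup.mem_subgroupOf, hval _ (by simpa using hx)]
      simpa [CosetCert.wprod] using hxK)
    hcert htab hn
  have hsub : Nat.card (K.subgroupOf F) ≤ c := by
    refine le_trans ?_ hK
    exact Nat.card_le_card_of_injective (fun h : K.subgroupOf F => (⟨((h : F) : G × Equiv.Perm (Fin 276)), h.2⟩ : K))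
      fun a b e => Subtype.ext (Subtype.ext (Subtype.ext_iff.1 e :))
  rw [← Subgroup.card_mul_index (K.subgroupOf F)]
  exact Nat.mul_le_mul hsub hidx

/-- A group with the eight generators and their relators contains a coded Co3 above the centraliser. -/
theorem complete [Finite G] (hrel : S.Relators) (hcard : Nat.card modelC = 2903040) :
    ∃ H : Subgroup G, Subgroup.centralizer ({t} : Set G) ≤ H ∧ Nonempty (H ≃* MG3) := by
  classical
  haveI : Finite (G × Equiv.Perm (Fin 276)) := inferInstance
  have hgen7 : ∀ {x : ℕ} (h : x < 7), S.gen x = S.back ⟨genM x, genM_mem h⟩ := fun {x} h => S.gen_low h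
  have hmcl : ∀ {w : List ℕ}, w ∈ McLTwoA8.Whole.base →
      wprod (fun x => S.pair (mclLoc x)) w = 1 ∧ ∀ x ∈ w, x < McLTwoA8.Whole.P.k := by
    intro w hw
    refine ⟨?_, fun x hx => sizes.2.symm ▸ below_iff.1 (List.all_eq_true.1 mcl_base_lt w hw) x hx⟩
    have hm : w.map mclLoc ∈ allRels := List.mem_append_left _ (List.mem_map.2 ⟨w, hw, rfl⟩)
    have e : wprod (fun x => S.pair (mclLoc x)) w = wprod S.pair (w.map mclLoc) := by
      simp [CosetCert.wprod, List.map_map, Function.comp_def]
    rw [e, S.wprod_pair, hrel _ hm, relators_genM hm]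
    rfl
  -- the graph over the double cover
  let A := genGroup 9 276 (cCodes.take 6)
  have hA : A ≤ modelC := Subgroup.closure_mono fun σ hσ => by
    obtain ⟨e, he, rfl⟩ := List.mem_map.1 hσ
    exact List.mem_map.2 ⟨e, List.mem_of_mem_take he, rfl⟩
  let Γ : Subgroup (G × Equiv.Perm (Fin 276)) := ((S.back.comp (Subgroup.inclusion hA)).prod A.subtype).range
  have hΓ : Nat.card Γ ≤ 40320 := by
    rw [← card_six]
    exact Nat.card_le_card_of_surjective _ ((S.back.comp (Subgroup.inclusion hA)).prod A.subtype).rangeRestrict_surjective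
  have hΓmem : ∀ {x : ℕ}, x < 6 → S.pair x ∈ Γ := by
    intro x hx
    have hm : genM x ∈ A := by
      rw [genM, if_pos (by omega)]
      refine Subgroup.subset_closure (List.mem_map.2 ⟨_, ?_, rfl⟩)
      rw [List.getD_eq_getElem _ _ (by rw [cCodes_length]; omega)]
      exact List.mem_iff_getElem.2 ⟨x, by rw [List.length_take, cCodes_length]; omega, by rw [List.getElem_take]⟩
    exact ⟨⟨genM x, hm⟩, Prod.ext (hgen7 (show x < 7 by omega)).symm rfl⟩
  let K := Subgroup.closure ((fun x => S.pair (mclLoc x)) '' {x | x < McLTwoA8.Whole.P.k})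
  have hK : Nat.card K ≤ 40320 * 22275 := by
    refine card_closure_le _ (fun x => S.pair_sq _) (fun w hw => hmcl hw) McLTwoA8.Whole.rots_ok Γ hΓ (fun w hw => ?_)
      McLTwoA8.Whole.cert_ok McLTwoA8.Whole.tab_ok (by norm_num)
    have h := List.all_eq_true.1 mcl_subs w hw
    match w, h with
    | [x], h =>
      rw [Nat.blt_eq] at h
      refine ⟨x, rfl, by rw [sizes.2]; omega, ?_⟩
      rw [show mclLoc x = x from by rw [mclLoc, show Nat.beq x 6 = false from by
        rw [← Bool.not_eq_true, Nat.beq_eq]; omega, cond_false]]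
      exact hΓmem h
  have hKmem : ∀ {x : ℕ}, x < 7 → S.pair (mclLoc x) ∈ K := fun hx =>
    Subgroup.subset_closure ⟨_, (show _ < McLTwoA8.Whole.P.k from sizes.2.symm ▸ hx), rfl⟩
  let F := Subgroup.closure (S.pair '' {x | x < Big.P.k})
  have hF : Nat.card F ≤ 495766656000 := by
    refine le_trans (card_closure_le _ S.pair_sq (fun w hw => ?_) Big.rots_ok K hK (fun w hw => ?_)
      Big.cert_ok Big.tab_ok (by norm_num)) (by norm_num)
    · have hm : w ∈ allRels := List.mem_append_right _ hw
      have h := List.all_eq_true.1 rels_model w hm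
      rw [Bool.and_eq_true] at h
      refine ⟨?_, fun x hx => sizes.1.symm ▸ below_iff.1 h.2 x hx⟩
      rw [S.wprod_pair, hrel _ hm, relators_genM hm]
      rfl
    · have h := List.all_eq_true.1 big_subs w hw
      match w, h with
      | [x], h =>
        simp only [Bool.or_eq_true, Nat.blt_eq, Nat.beq_eq] at h
        refine ⟨x, rfl, by rw [sizes.1]; omega, ?_⟩
        rcases h with h | rfl
        · have := hKmem (x := x) (by omega)
          rwa [show mclLoc x = x from by rw [mclLoc, show Nat.beq x 6 = false from by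
            rw [← Bool.not_eq_true, Nat.beq_eq]; omega, cond_false]] at this
        · exact hKmem (x := 6) (by norm_num)
  -- the projection onto the coded group
  let p : F →* Equiv.Perm (Fin 276) := (MonoidHom.snd G (Equiv.Perm (Fin 276))).comp F.subtype
  have hk8 : {x : ℕ | x < Big.P.k} = {x : ℕ | x < 8} := by rw [sizes.1]
  have hrange : p.range = MG3 := by
    rw [MonoidHom.range_comp, Subgroup.range_subtype, MonoidHom.map_closure, Set.image_image, hk8]
    refine le_antisymm ((Subgroup.closure_le _).2 ?_) MG3_le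
    rintro _ ⟨x, -, rfl⟩
    exact genM_mem3 x
  let q : F →* MG3 := p.codRestrict MG3 fun f => hrange ▸ ⟨f, rfl⟩
  have hq : Function.Bijective q := by
    have hs : Function.Surjective q := fun y => by
      have hy : (y : Equiv.Perm (Fin 276)) ∈ p.range := by rw [hrange]; exact y.2
      obtain ⟨f, hf⟩ := hy
      exact ⟨f, Subtype.ext hf⟩
    exact hs.bijective_of_nat_card_le (by rw [card_MG3]; exact hF)
  let eq := MulEquiv.ofBijective q hq
  let ψ : MG3 →* G := ((MonoidHom.fst G (Equiv.Perm (Fin 276))).comp F.subtype).comp eq.symm.toMonoidHom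
  have hψgen : ∀ x, x < 8 → ψ ⟨genM x, genM_mem3 x⟩ = S.gen x := by
    intro x hx
    let f : F := ⟨S.pair x, Subgroup.subset_closure ⟨x, (show x < Big.P.k from sizes.1.symm ▸ hx), rfl⟩⟩
    have h : eq.symm ⟨genM x, genM_mem3 x⟩ = f := eq.symm_apply_eq.2 (Subtype.ext rfl)
    show ((eq.symm ⟨genM x, genM_mem3 x⟩ : F) : G × Equiv.Perm (Fin 276)).1 = _
    rw [h]
    rfl
  have hψC : ∀ a : modelC, ψ ⟨a, modelC_le a.2⟩ = S.back a := by
    have hext : ψ.comp (Subgroup.inclusion modelC_le) = S.back := by
      refine MonoidHom.eq_of_eqOn_dense modelC_eq ?_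
      rintro a ⟨x, hx, hax⟩
      obtain rfl : a = ⟨genM x, genM_mem hx⟩ := Subtype.ext hax
      show ψ ⟨genM x, _⟩ = _
      rw [← hgen7 hx]
      exact hψgen x (by omega)
    intro a
    rw [← hext]
    rfl
  obtain ⟨f⟩ := SporPerm.co3_equiv
  haveI := Cfsg.Agent.Leech.isCo3_spor.1
  haveI : IsSimpleGroup MG3 := f.isSimpleGroup_congr.1 inferInstance
  have hinj : Function.Injective ψ := by
    rw [← MonoidHom.ker_eq_bot_iff]
    refine (ψ.normal_ker.eq_bot_or_eq_top).resolve_right fun h => ?_
    have hone : ∀ a : modelC, a = 1 := fun a => by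
      have h1 : ψ ⟨a, modelC_le a.2⟩ = 1 := MonoidHom.mem_ker.1 (h ▸ Subgroup.mem_top _)
      rw [hψC] at h1
      have h2 : (S.φ.symm a : G) = 1 := h1
      rw [OneMemClass.coe_eq_one, EmbeddingLike.map_eq_one_iff] at h2
      exact h2
    haveI : Subsingleton modelC := ⟨fun a b => (hone a).trans (hone b).symm⟩
    rw [Nat.card_unique] at hcard
    norm_num at hcard
  refine ⟨ψ.range, fun c hc => ⟨⟨_, modelC_le (S.φ ⟨c, hc⟩).2⟩, ?_⟩, ⟨(MonoidHom.ofInjective hinj).symm⟩⟩
  rw [hψC]
  show ((S.φ.symm (S.φ ⟨c, hc⟩) : Subgroup.centralizer ({t} : Set G)) : G) = c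
  rw [S.φ.symm_apply_apply]

end

end Cfsg.Agent.CoThreeSp6
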