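import Cfsg.Agent.Lib.CoThreeSp6.FusionModel
import Cfsg.Agent.Lib.McLTwoA8.Isolated

/-!
Fusion of involutions when the centraliser of an involution is the double cover of the symplectic group of dimension
six over two elements.
-/

set_option autoImplicit false
set_option maxRecDepth 20000

namespace Cfsg.Agent.CoThreeSp6

open Cfsg Cfsg.Agent.PermCert

attribute [local irreducible] cCodes tCode uCode wCode genGroup toPerm

theorem mem_center_iff' {H K : Type*} [Group H] [Group K] (e : H ≃* K) (x : H) :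
    e x ∈ Subgroup.center K ↔ x ∈ Subgroup.center H := by
  simp only [Subgroup.mem_center_iff]
  refine ⟨fun h y => e.injective (by rw [map_mul, map_mul]; exact h (e y)), fun h y => ?_⟩
  obtain ⟨z, rfl⟩ := e.surjective y
  rw [← map_mul, ← map_mul, h z]

section Setting

variable {G : Type*} [Group G] [Finite G] {t : G} (φ : Subgroup.centralizer ({t} : Set G) ≃* modelC)

/-- The model inside the group. -/
noncomputable def back : modelC →* G := (Subgroup.centralizer ({t} : Set G)).subtype.comp φ.symm.toMonoidHom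

theorem back_apply (x : modelC) : back φ x = ((φ.symm x : Subgroup.centralizer ({t} : Set G)) : G) := rfl

theorem back_injective : Function.Injective (back φ) :=
  (Subgroup.subtype_injective _).comp φ.symm.injective

theorem back_mem (x : modelC) : back φ x ∈ Subgroup.centralizer ({t} : Set G) := (φ.symm x).2

theorem back_t (ht : orderOf t = 2) : back φ ⟨tPerm, tPerm_mem⟩ = t := by
  let ct : Subgroup.centralizer ({t} : Set G) := ⟨t, Subgroup.mem_centralizer_singleton_iff.2 rfl⟩
  have hc : φ ct ∈ Subgroup.center modelC := (mem_center_iff' φ ct).2 (Subgroup.mem_center_iff.2 fun c =>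
    Subtype.ext (Subgroup.mem_centralizer_singleton_iff.1 c.2))
  have h : φ ct = ⟨tPerm, tPerm_mem⟩ := by
    rcases (center_modelC _).1 hc with h | h
    · exfalso
      have h1 : ct = 1 := φ.injective ((Subtype.ext h : φ ct = 1).trans (map_one φ).symm)
      have h2 : t = 1 := congrArg Subtype.val h1
      rw [h2, orderOf_one] at ht
      norm_num at ht
    · exact Subtype.ext h
  rw [← h, back_apply, φ.symm_apply_apply]

end Setting

/-- **The swap**: an involution carrying the central involution to its partner. -/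
theorem exists_swap {G : Type*} [Group G] [Finite G] (t : G) (ht : orderOf t = 2)
    (hcov : Cfsg.IsNonsplitDoubleCover (Subgroup.centralizer ({t} : Set G))
      (Matrix.symplecticGroup (Fin 3) (ZMod 2)))
    (hO : Cfsg.oddCore G = ⊥) (hZ : Subgroup.center G = ⊥) :
    ∃ (φ : Subgroup.centralizer ({t} : Set G) ≃* modelC) (s : G) (ct cu : Subgroup.centralizer ({t} : Set G)),
      (ct : G) = t ∧ ((φ ct : modelC) : Equiv.Perm (Fin 276)) = toPerm 9 276 tCode ∧
      ((φ cu : modelC) : Equiv.Perm (Fin 276)) = toPerm 9 276 uCode ∧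
      s * s = 1 ∧ s * t * s = (cu : G) := by
  obtain ⟨φ⟩ := nonempty_modelC_equiv hcov
  have htt : t * t = 1 := by rw [← pow_two, ← ht, pow_orderOf_eq_one]
  set T : modelC := ⟨tPerm, tPerm_mem⟩ with hTdef
  set U : modelC := ⟨uPerm, uPerm_mem⟩ with hUdef
  set W : modelC := ⟨wPerm, wPerm_mem⟩ with hWdef
  have hT : back φ T = t := back_t φ ht
  have hval : ∀ (c : G) (hc : c ∈ Subgroup.centralizer ({t} : Set G)), back φ (φ ⟨c, hc⟩) = c := fun c hc => by
    rw [back_apply, φ.symm_apply_apply]
  have htC : t ∈ Subgroup.centralizer ({t} : Set G) := Subgroup.mem_centralizer_singleton_iff.2 rfl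
  -- involutions of the centraliser other than the central one
  have hclass : ∀ j : G, j ∈ Subgroup.centralizer ({t} : Set G) → j * j = 1 → j ≠ 1 → j ≠ t →
      ∃ a : modelC, back φ a * j * (back φ a)⁻¹ = back φ U ∨ back φ a * j * (back φ a)⁻¹ = back φ W := by
    intro j hj hj2 hj1 hjt
    have e := hval j hj
    obtain ⟨a, ha, he⟩ := model_invol (φ ⟨j, hj⟩).2
      (congrArg Subtype.val (back_injective φ (show back φ (φ ⟨j, hj⟩ * φ ⟨j, hj⟩) = back φ 1 by
        rw [map_mul, map_one, e, hj2])))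
      (fun h => hj1 (by rw [← e, show φ ⟨j, hj⟩ = 1 from Subtype.ext h, map_one]))
      (fun h => hjt (by rw [← e, show φ ⟨j, hj⟩ = T from Subtype.ext h, hT]))
    refine ⟨⟨a, ha⟩, ?_⟩
    rw [← e, ← map_inv, ← map_mul, ← map_mul]
    exact he.imp (fun h => congrArg (back φ) (Subtype.ext h)) (fun h => congrArg (back φ) (Subtype.ext h))
  -- such an involution conjugate to the central one is conjugate to the partner
  have hfus : ∀ j : G, j ∈ Subgroup.centralizer ({t} : Set G) → j ≠ t → IsConj t j →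
      ∃ a : modelC, back φ a * j * (back φ a)⁻¹ = back φ U := by
    intro j hj hjt hconj
    obtain ⟨g, hg⟩ := isConj_iff.1 hconj
    have hjo : orderOf j = 2 := by rw [← hg, show g * t * g⁻¹ = MulAut.conj g t from rfl, MulEquiv.orderOf_eq, ht]
    have hj2 : j * j = 1 := by rw [← pow_two, ← hjo, pow_orderOf_eq_one]
    have hj1 : j ≠ 1 := fun h => by rw [h, orderOf_one] at hjo; norm_num at hjo
    obtain ⟨a, ha⟩ := hclass j hj hj2 hj1 hjt
    rcases ha with ha | ha
    · exact ⟨a, ha⟩
    exfalso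
    have hjc : j * t = t * j := Subgroup.mem_centralizer_singleton_iff.1 hj
    set t' := g⁻¹ * t * g with ht'
    have hjeq : j = g * t * g⁻¹ := hg.symm
    have ht'C : t' ∈ Subgroup.centralizer ({t} : Set G) := Subgroup.mem_centralizer_singleton_iff.2 (by
      calc t' * t = g⁻¹ * (t * j) * g := by rw [ht', hjeq]; group
        _ = g⁻¹ * (j * t) * g := by rw [hjc]
        _ = t * t' := by rw [ht', hjeq]; group)
    have ht'2 : t' * t' = 1 := by
      rw [ht', show g⁻¹ * t * g * (g⁻¹ * t * g) = g⁻¹ * (t * t) * g by group, htt]; group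
    have ht'1 : t' ≠ 1 := fun h => by
      have : t = 1 := by
        rw [ht'] at h
        calc t = g * (g⁻¹ * t * g) * g⁻¹ := by group
          _ = 1 := by rw [h]; group
      rw [this, orderOf_one] at ht
      norm_num at ht
    have ht't : t' ≠ t := fun h => hjt (by
      rw [hjeq]
      calc g * t * g⁻¹ = g * t' * g⁻¹ := by rw [h]
        _ = t := by rw [ht']; group)
    obtain ⟨c, hc⟩ := hclass t' ht'C ht'2 ht'1 ht't
    obtain ⟨z, hzz, hzc⟩ : ∃ z : modelC, back φ z * back φ z = t ∧ back φ z * t' = t' * back φ z := by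
      have key : ∀ R : modelC, back φ c * t' * (back φ c)⁻¹ = back φ R →
          (∃ z ∈ modelC, z * z = tPerm ∧ z * (R : Equiv.Perm (Fin 276)) = R * z) →
          ∃ z : modelC, back φ z * back φ z = t ∧ back φ z * t' = t' * back φ z := by
        rintro R hR ⟨z, hz, hz2, hzR⟩
        refine ⟨c⁻¹ * ⟨z, hz⟩ * c, ?_, ?_⟩
        · rw [← map_mul, show c⁻¹ * ⟨z, hz⟩ * c * (c⁻¹ * ⟨z, hz⟩ * c) = c⁻¹ * (⟨z, hz⟩ * ⟨z, hz⟩) * c by group,
            show (⟨z, hz⟩ : modelC) * ⟨z, hz⟩ = T from Subtype.ext hz2,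
            show c⁻¹ * T * c = T by
              rw [mul_assoc, show T * c = c * T from Subtype.ext (tPerm_central c.2).symm, inv_mul_cancel_left], hT]
        · have e : t' = back φ (c⁻¹ * R * c) := by
            rw [map_mul, map_mul, map_inv, ← hR]; group
          rw [e, ← map_mul, ← map_mul]
          refine congrArg (back φ) ?_
          calc c⁻¹ * ⟨z, hz⟩ * c * (c⁻¹ * R * c) = c⁻¹ * (⟨z, hz⟩ * R) * c := by group
            _ = c⁻¹ * (R * ⟨z, hz⟩) * c := by rw [show (⟨z, hz⟩ : modelC) * R = R * ⟨z, hz⟩ from Subtype.ext hzR]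
            _ = _ := by group
      rcases hc with hc | hc
      · exact key U hc exists_root_u
      · exact key W hc exists_root_w
    set y := g * back φ z * g⁻¹ with hy
    have hyy : y * y = j := by
      rw [hy, show g * back φ z * g⁻¹ * (g * back φ z * g⁻¹) = g * (back φ z * back φ z) * g⁻¹ by group, hzz, hg]
    have hyC : y ∈ Subgroup.centralizer ({t} : Set G) := Subgroup.mem_centralizer_singleton_iff.2 (by
      calc y * t = g * (back φ z * t') * g⁻¹ := by rw [hy, ht']; group
        _ = g * (t' * back φ z) * g⁻¹ := by rw [hzc]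
        _ = t * y := by rw [hy, ht']; group)
    refine not_square (a * φ ⟨y, hyC⟩ * a⁻¹ : modelC).2 ?_
    refine congrArg Subtype.val (show (a * φ ⟨y, hyC⟩ * a⁻¹) * (a * φ ⟨y, hyC⟩ * a⁻¹) = W from back_injective φ ?_)
    rw [map_mul, map_mul, map_mul, map_inv, hval y hyC, ← ha, ← hyy]
    group
  have hU2 : back φ U * back φ U = 1 := by
    rw [← map_mul, show U * U = 1 from Subtype.ext uPerm_sq, map_one]
  have hU1 : back φ U ≠ 1 := fun h => uPerm_ne_one (congrArg Subtype.val (back_injective φ (h.trans (map_one _).symm)))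
  have hUt : back φ U ≠ t := fun h => uPerm_ne_t (congrArg Subtype.val (back_injective φ (h.trans hT.symm)))
  -- the central involution is conjugate to the partner
  have hni : ¬ Cfsg.IsIsolated t := fun hi => by
    have h := McLTwoA8.sup_oddCore_of_isolated t ht hi
    rw [hO, sup_bot_eq] at h
    have hc : t ∈ Subgroup.center G := Subgroup.mem_center_iff.2 fun g =>
      Subgroup.mem_centralizer_singleton_iff.1 (h ▸ Subgroup.mem_top g)
    rw [hZ, Subgroup.mem_bot] at hc
    rw [hc, orderOf_one] at ht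
    norm_num at ht
  have htu : IsConj t (back φ U) := by
    simp only [IsIsolated, not_forall] at hni
    obtain ⟨g, hcomm, hne⟩ := hni
    obtain ⟨a, ha⟩ := hfus (g * t * g⁻¹) (Subgroup.mem_centralizer_singleton_iff.2 hcomm.eq.symm) hne
      (isConj_iff.2 ⟨g, rfl⟩)
    exact (isConj_iff.2 ⟨g, rfl⟩).trans (isConj_iff.2 ⟨_, ha⟩)
  obtain ⟨b, hb, hb2, hbu⟩ := exists_swap_model
  set B := back φ ⟨b, hb⟩ with hB
  have hBB : B * B = 1 := by
    rw [hB, ← map_mul, show (⟨b, hb⟩ * ⟨b, hb⟩ : modelC) = 1 from Subtype.ext hb2, map_one]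
  -- the swap
  set u := back φ U with hu
  have hcomm : t * u = u * t := (Subgroup.mem_centralizer_singleton_iff.1 (back_mem φ U)).symm
  have hv2 : t * u * (t * u) = 1 := by
    rw [mul_assoc, ← mul_assoc u, ← hcomm, mul_assoc t u u, hU2, mul_one, htt]
  have hv1 : t * u ≠ 1 := fun h => hUt (mul_left_cancel (h.trans htt.symm))
  have hBu : B * u * B = t * u := by
    have h : B * u * B⁻¹ = t * u := by
      have e : back φ (⟨b, hb⟩ * U * (⟨b, hb⟩ : modelC)⁻¹) = back φ (T * U) :=
        congrArg (back φ) (Subtype.ext hbu)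
      rwa [map_mul, map_mul, map_mul, map_inv, hT, ← hu, ← hB] at e
    rwa [inv_eq_of_mul_eq_one_right hBB] at h
  obtain ⟨g, hg⟩ := isConj_iff.1 (htu.trans (isConj_iff.2 ⟨B, by rw [inv_eq_of_mul_eq_one_right hBB, hBu]⟩))
  set t' := g⁻¹ * t * g with ht'
  set u' := g⁻¹ * u * g with hu'
  have hprod : t' * u' = t := by
    rw [ht', hu', show g⁻¹ * t * g * (g⁻¹ * u * g) = g⁻¹ * (t * u) * g by group, ← hg]
    group
  have ht'2 : t' * t' = 1 := by
    rw [ht', show g⁻¹ * t * g * (g⁻¹ * t * g) = g⁻¹ * (t * t) * g by group, htt]; group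
  have hu'2 : u' * u' = 1 := by
    rw [hu', show g⁻¹ * u * g * (g⁻¹ * u * g) = g⁻¹ * (u * u) * g by group, hU2]; group
  have hu'eq : u' = t' * t :=
    calc u' = t' * t' * u' := by rw [ht'2, one_mul]
      _ = t' * (t' * u') := mul_assoc _ _ _
      _ = t' * t := by rw [hprod]
  have ht'C : t' ∈ Subgroup.centralizer ({t} : Set G) := Subgroup.mem_centralizer_singleton_iff.2 (by
    have h : t' * u' = u' * t' := by
      rw [ht', hu', show g⁻¹ * t * g * (g⁻¹ * u * g) = g⁻¹ * (t * u) * g by group, hcomm]; group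
    calc t' * t = t' * (t' * u') := by rw [hprod]
      _ = t' * (u' * t') := by rw [h]
      _ = t' * u' * t' := (mul_assoc _ _ _).symm
      _ = t * t' := by rw [hprod])
  have ht'1 : t' ≠ 1 := fun h => by
    have : t = 1 := by
      rw [ht'] at h
      calc t = g * (g⁻¹ * t * g) * g⁻¹ := by group
        _ = 1 := by rw [h]; group
    rw [this, orderOf_one] at ht
    norm_num at ht
  have ht't : t' ≠ t := fun h => by
    have h1 : u' = 1 := by rw [hu'eq, h, htt]
    refine hU1 ?_
    rw [hu'] at h1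
    calc u = g * (g⁻¹ * u * g) * g⁻¹ := by group
      _ = 1 := by rw [h1]; group
  obtain ⟨a, ha⟩ := hfus t' ht'C ht't (isConj_iff.2 ⟨g⁻¹, by rw [ht', inv_inv]⟩)
  set A := back φ a with hA
  have hAt : A * t = t * A := by
    have e : back φ (a * T) = back φ (T * a) := congrArg (back φ) (Subtype.ext (tPerm_central a.2))
    rwa [map_mul, map_mul, hT, ← hA] at e
  -- the conjugate of the model swap moves the first to the second
  have hkey : A⁻¹ * B * A * t' * (A⁻¹ * B * A) = u' := by
    have h1 : t' = A⁻¹ * u * A := by rw [← ha]; group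
    calc A⁻¹ * B * A * t' * (A⁻¹ * B * A) = A⁻¹ * B * (A * t' * A⁻¹) * B * A := by group
      _ = A⁻¹ * (B * u * B) * A := by rw [ha]; group
      _ = A⁻¹ * (t * u) * A := by rw [hBu]
      _ = A⁻¹ * t * A * (A⁻¹ * u * A) := by group
      _ = t * t' := by rw [h1, mul_assoc A⁻¹ t A, ← hAt, inv_mul_cancel_left]
      _ = u' := by rw [hu'eq]; exact (Subgroup.mem_centralizer_singleton_iff.1 ht'C).symm
  refine ⟨φ, g * (A⁻¹ * B * A) * g⁻¹, φ.symm T, φ.symm U, hT, by rw [φ.apply_symm_apply]; rfl,
    by rw [φ.apply_symm_apply]; rfl, ?_, ?_⟩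
  · calc g * (A⁻¹ * B * A) * g⁻¹ * (g * (A⁻¹ * B * A) * g⁻¹) = g * A⁻¹ * (B * B) * A * g⁻¹ := by group
      _ = 1 := by rw [hBB]; group
  · calc g * (A⁻¹ * B * A) * g⁻¹ * t * (g * (A⁻¹ * B * A) * g⁻¹)
        = g * (A⁻¹ * B * A * t' * (A⁻¹ * B * A)) * g⁻¹ := by rw [ht']; group
      _ = g * u' * g⁻¹ := by rw [hkey]
      _ = u := by rw [hu']; group
      _ = _ := rfl

end Cfsg.Agent.CoThreeSp6
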