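import Cfsg.Agent.Lib.CoThreeSp6.BetaDefs

/-! Kernel checks of the representatives of the images of the generators. -/

set_option autoImplicit false
set_option maxRecDepth 100000
set_option Elab.async false

namespace Cfsg.Agent.CoThreeSp6

open Cfsg.Agent.CosetCert (allBelow)

theorem first_check : allBelow firstOK 4608 = true := by decide +kernel
theorem second_check : allBelow (fun k => allBelow (secondOK k) 4608) 4 = true := by decide +kernel
theorem fix_check : cvCands.all fixOK = true := by decide +kernel

end Cfsg.Agent.CoThreeSp6
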