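import Cfsg.Agent.Lib.CoThreeSp6.TripleDefs

/-! Kernel checks of the triples over a first representative (part 0B). -/

set_option autoImplicit false
set_option maxRecDepth 100000
set_option Elab.async false

namespace Cfsg.Agent.CoThreeSp6

theorem triplePart_0_6 : triplePart 0 6 = true := by decide +kernel
theorem triplePart_0_7 : triplePart 0 7 = true := by decide +kernel
theorem triplePart_0_8 : triplePart 0 8 = true := by decide +kernel
theorem triplePart_0_9 : triplePart 0 9 = true := by decide +kernel
theorem triplePart_0_10 : triplePart 0 10 = true := by decide +kernel
theorem triplePart_0_11 : triplePart 0 11 = true := by decide +kernel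

end Cfsg.Agent.CoThreeSp6
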