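import Cfsg.Agent.Lib.CoThreeSp6.TripleDefs

/-! Kernel checks of the triples over a first representative (part 1). -/

set_option autoImplicit false
set_option maxRecDepth 100000
set_option Elab.async false

namespace Cfsg.Agent.CoThreeSp6

theorem triplePart_1_0 : triplePart 1 0 = true := by decide +kernel
theorem triplePart_1_1 : triplePart 1 1 = true := by decide +kernel
theorem triplePart_1_2 : triplePart 1 2 = true := by decide +kernel
theorem triplePart_1_3 : triplePart 1 3 = true := by decide +kernel
theorem triplePart_1_4 : triplePart 1 4 = true := by decide +kernel

end Cfsg.Agent.CoThreeSp6
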