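import Cfsg.Agent.Lib.CoThreeSp6.TripleDefs

/-! Kernel checks of the triples over a first representative (part 3). -/

set_option autoImplicit false
set_option maxRecDepth 100000
set_option Elab.async false

namespace Cfsg.Agent.CoThreeSp6

theorem triplePart_3_0 : triplePart 3 0 = true := by decide +kernel
theorem triplePart_3_1 : triplePart 3 1 = true := by decide +kernel
theorem triplePart_3_2 : triplePart 3 2 = true := by decide +kernel
theorem triplePart_3_3 : triplePart 3 3 = true := by decide +kernel
theorem triplePart_3_4 : triplePart 3 4 = true := by decide +kernel

end Cfsg.Agent.CoThreeSp6
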