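import Cfsg.Agent.Lib.CoThreeSp6.BetaTable
import Cfsg.Agent.Lib.CoThreeSp6.BetaReps
import Cfsg.Agent.Lib.CoThreeSp6.BetaTriples0A
import Cfsg.Agent.Lib.CoThreeSp6.BetaTriples0B
import Cfsg.Agent.Lib.CoThreeSp6.BetaTriples1
import Cfsg.Agent.Lib.CoThreeSp6.BetaTriples2
import Cfsg.Agent.Lib.CoThreeSp6.BetaTriples3

/-!
An involution exchanging two commuting involutions and normalising their common centraliser of order 4608 can be
chosen to act on it as one of two given maps.
-/

set_option autoImplicit false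
set_option maxRecDepth 100000
set_option Elab.async false

namespace Cfsg.Agent.CoThreeSp6

open Cfsg.Agent.CosetCert (Tab allBelow allBelow_spec)

noncomputable section

attribute [local irreducible] leftTab wordTab baseTab invTab firstTab secondTabs cvReps cvSix cvRels cvCands cvB

/-- The central involutions commute with the generators. -/
theorem central_check :
    allBelow (fun j => Nat.beq (mI (sel cvG j) cvT) (mI cvT (sel cvG j)) &&
      Nat.beq (mI (sel cvG j) cvU) (mI cvU (sel cvG j))) 3 = true ∧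
    (Nat.beq cvT cvU || Nat.beq cvT 0 || Nat.beq cvU 0) = false ∧
    cvZ = [0, cvT, cvU, mI cvT cvU] := by decide +kernel

theorem orders_check : isThree cvG.1 = true ∧ isTwo cvG.2.1 = true ∧ isSix cvG.2.2 = true ∧ cvReps.length = 4 := by
  decide +kernel

theorem cvB_swap : imI cvB cvT = cvU ∧ imI cvB cvU = cvT := by
  have h := named_check
  simp only [namedOK, Bool.and_eq_true, Nat.beq_eq] at h
  exact ⟨h.1.2, h.2⟩

theorem allBelow_intro {f : ℕ → Bool} : ∀ {n : ℕ}, (∀ i, i < n → f i = true) → allBelow f n = true := by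
  intro n
  induction n with
  | zero => intro _; rfl
  | succ n ih =>
    intro h
    change Bool.rec false (allBelow f n) (f n) = true
    rw [h n (Nat.lt_succ_self n), ih fun i hi => h i (Nat.lt_succ_of_lt hi)]

/-- An abstract copy of the table in a group. -/
structure Copy (G : Type*) [Group G] where
  el : ℕ → G
  left : ∀ j a, j < 3 → a < 4608 → el (sel cvG j) * el a = el (leftI j a)
  one : el 0 = 1
  inj : ∀ a b, a < 4608 → b < 4608 → el a = el b → a = b

variable {G : Type*} [Group G] (C : Copy G)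

theorem actW_zero (f : ℕ → ℕ → ℕ) (b w : ℕ) : actW f b 0 w = b := rfl

theorem actW_succ (f : ℕ → ℕ → ℕ) (b n w : ℕ) :
    actW f b (n + 1) w =
      Bool.rec (f (Nat.sub (Nat.mod w 4) 1) (actW f b n (Nat.div w 4))) b (Nat.beq w 0) := rfl

theorem fuelOK_succ (n w : ℕ) :
    fuelOK (n + 1) w = Bool.rec (!Nat.beq (Nat.mod w 4) 0 && fuelOK n (Nat.div w 4)) true (Nat.beq w 0) := rfl

/-- Two evaluations of one word. -/
theorem walk {f g : ℕ → ℕ → ℕ} {b c : ℕ} {P : ℕ → ℕ → Prop} (h0 : P b c)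
    (hs : ∀ j r q, j < 3 → P r q → P (f j r) (g j q)) :
    ∀ n w, fuelOK n w = true → P (actW f b n w) (actW g c n w)
  | 0, w, _ => h0
  | n + 1, w, h => by
    rw [fuelOK_succ] at h
    rw [actW_succ, actW_succ]
    cases hw : Nat.beq w 0 with
    | true => exact h0
    | false =>
      rw [hw] at h
      simp only [Bool.and_eq_true, Bool.not_eq_true'] at h
      refine hs _ _ _ ?_ (walk h0 hs n _ h.2)
      have h4 : Nat.mod w 4 < 4 := Nat.mod_lt _ (by norm_num)
      have h5 : Nat.mod w 4 ≠ 0 := fun e => by rw [e] at h; exact absurd h.1 (by decide)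
      show w % 4 - 1 < 3
      have h4' : w % 4 < 4 := h4
      have h5' : w % 4 ≠ 0 := h5
      omega

theorem word_spec {a : ℕ} (ha : a < 4608) :
    mI a 0 = a ∧ fuelOK 16 (wordI a) = true ∧ mI a (invI a) = 0 ∧ invI a < 4608 := by
  have h := allBelow_spec word_check ha
  simp only [wordOK, Bool.and_eq_true, Nat.beq_eq, Nat.blt_eq] at h
  exact ⟨h.1.1.1.1, h.1.1.1.2, h.1.2, h.2⟩

theorem leftI_lt {j a : ℕ} (hj : j < 3) (ha : a < 4608) : leftI j a < 4608 := by
  have h := allBelow_spec word_check ha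
  simp only [wordOK, Bool.and_eq_true] at h
  exact Nat.blt_eq.mp (allBelow_spec h.1.1.2 hj)

theorem word_induction {motive : ℕ → Prop} (h0 : motive 0)
    (hs : ∀ j a, j < 3 → a < 4608 → motive a → motive (leftI j a)) {a : ℕ} (ha : a < 4608) : motive a := by
  obtain ⟨h1, h2, -, -⟩ := word_spec ha
  have h : mI a 0 < 4608 ∧ motive (mI a 0) := by
    refine walk (f := leftI) (g := leftI) (c := 0) (P := fun x _ => x < 4608 ∧ motive x) ⟨by norm_num, h0⟩ ?_ 16 _ h2
    intro j r _ hj hr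
    exact ⟨leftI_lt hj hr.1, hs j r hj hr.1 hr.2⟩
  rw [h1] at h
  exact h.2

theorem mI_lt {a b : ℕ} (ha : a < 4608) (hb : b < 4608) : mI a b < 4608 := by
  refine walk (f := leftI) (g := leftI) (c := 0) (P := fun x _ => x < 4608) hb ?_ 16 _ (word_spec ha).2.1
  intro j r _ hj hr
  exact leftI_lt hj hr

theorem invI_lt {a : ℕ} (ha : a < 4608) : invI a < 4608 := (word_spec ha).2.2.2

theorem named_lt : cvG.1 < 4608 ∧ cvG.2.1 < 4608 ∧ cvG.2.2 < 4608 ∧ cvT < 4608 ∧ cvU < 4608 := by decide +kernel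

theorem sel_G {j : ℕ} : sel cvG j < 4608 := by
  rcases j with _ | _ | j
  · exact named_lt.1
  · exact named_lt.2.1
  · exact named_lt.2.2.1

theorem el_mul {a b : ℕ} (ha : a < 4608) (hb : b < 4608) : C.el a * C.el b = C.el (mI a b) := by
  obtain ⟨h1, h2, -, -⟩ := word_spec ha
  have h : mI a 0 < 4608 ∧ mI a b < 4608 ∧ C.el (mI a 0) * C.el b = C.el (mI a b) := by
    refine walk (f := leftI) (g := leftI) (P := fun x y => x < 4608 ∧ y < 4608 ∧ C.el x * C.el b = C.el y)
      ⟨by norm_num, hb, by rw [C.one, one_mul]⟩ ?_ 16 _ h2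
    intro j r q hj h
    refine ⟨leftI_lt hj h.1, leftI_lt hj h.2.1, ?_⟩
    rw [← C.left j r hj h.1, ← C.left j q hj h.2.1, mul_assoc, h.2.2]
  rw [h1] at h
  exact h.2.2

theorem el_inv {a : ℕ} (ha : a < 4608) : C.el (invI a) = (C.el a)⁻¹ := by
  obtain ⟨-, -, h3, h4⟩ := word_spec ha
  exact eq_inv_of_mul_eq_one_right (by rw [el_mul C ha h4, h3, C.one])

theorem cjI_lt {c a : ℕ} (hc : c < 4608) (ha : a < 4608) : cjI c a < 4608 :=
  mI_lt (mI_lt hc ha) (invI_lt hc)

theorem el_cj {c a : ℕ} (hc : c < 4608) (ha : a < 4608) : C.el (cjI c a) = C.el c * C.el a * (C.el c)⁻¹ := by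
  rw [cjI, ← el_mul C (mI_lt hc ha) (invI_lt hc), ← el_mul C hc ha, el_inv C hc]

theorem el_eq_one {a : ℕ} (ha : a < 4608) (h : C.el a = 1) : a = 0 :=
  C.inj a 0 ha (by norm_num) (h.trans C.one.symm)

theorem imI_lt {im : ℕ × ℕ × ℕ} (h : ∀ j, j < 3 → sel im j < 4608) {a : ℕ} (ha : a < 4608) :
    imI im a < 4608 := by
  refine walk (f := fun j e => mI (sel im j) e) (g := leftI) (c := 0) (P := fun x _ => x < 4608) (by norm_num) ?_ 16 _
    (word_spec ha).2.1
  intro j r _ hj hr
  exact mI_lt (h j hj) hr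

/-- The automorphism induced by an element is given by the images of the generators. -/
theorem conj_eq {x : G} {im : ℕ × ℕ × ℕ} (hlt : ∀ j, j < 3 → sel im j < 4608)
    (hg : ∀ j, j < 3 → x * C.el (sel cvG j) * x⁻¹ = C.el (sel im j)) {a : ℕ} (ha : a < 4608) :
    x * C.el a * x⁻¹ = C.el (imI im a) := by
  obtain ⟨h1, h2, -, -⟩ := word_spec ha
  have h : mI a 0 < 4608 ∧ imI im a < 4608 ∧ x * C.el (mI a 0) * x⁻¹ = C.el (imI im a) := by
    refine walk (f := leftI) (g := fun j e => mI (sel im j) e)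
      (P := fun r q => r < 4608 ∧ q < 4608 ∧ x * C.el r * x⁻¹ = C.el q)
      ⟨by norm_num, by norm_num, by rw [C.one]; group⟩ ?_ 16 _ h2
    intro j r q hj h
    refine ⟨leftI_lt hj h.1, mI_lt (hlt j hj) h.2.1, ?_⟩
    rw [← C.left j r hj h.1, ← el_mul C (hlt j hj) h.2.1, ← hg j hj, ← h.2.2]
    group
  rw [h1] at h
  exact h.2.2

theorem evR_cons (im : ℕ × ℕ × ℕ) (j : ℕ) (w : List ℕ) : evR im (j :: w) = mI (letV im j) (evR im w) := rfl

theorem letV_spec {x : G} {im : ℕ × ℕ × ℕ} (hlt : ∀ j, j < 3 → sel im j < 4608)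
    (hg : ∀ j, j < 3 → x * C.el (sel cvG j) * x⁻¹ = C.el (sel im j)) {j : ℕ} (hj : j < 6) :
    letV im j < 4608 ∧ letV cvG j < 4608 ∧ x * C.el (letV cvG j) * x⁻¹ = C.el (letV im j) := by
  by_cases h3 : j < 3
  · simp only [letV, Nat.blt_eq.mpr h3]
    exact ⟨hlt j h3, sel_G, hg j h3⟩
  · have e : Nat.blt j 3 = false := by rw [← Bool.not_eq_true, Nat.blt_eq]; exact h3
    have hk : Nat.sub j 3 < 3 := by show j - 3 < 3; omega
    simp only [letV, e]
    refine ⟨invI_lt (hlt _ hk), invI_lt sel_G, ?_⟩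
    rw [el_inv C sel_G, el_inv C (hlt _ hk), ← hg _ hk]
    group

theorem relator_zero {x : G} {im : ℕ × ℕ × ℕ} (hlt : ∀ j, j < 3 → sel im j < 4608)
    (hg : ∀ j, j < 3 → x * C.el (sel cvG j) * x⁻¹ = C.el (sel im j)) {w : List ℕ} (hw : w ∈ cvRels) :
    evR im w = 0 := by
  have h := named_check
  simp only [namedOK, Bool.and_eq_true, List.all_eq_true, Nat.beq_eq, Nat.blt_eq] at h
  obtain ⟨hz, hj⟩ := h.1.1.1.1.2 w hw
  have key : ∀ v : List ℕ, (∀ j ∈ v, j < 6) →
      evR im v < 4608 ∧ evR cvG v < 4608 ∧ x * C.el (evR cvG v) * x⁻¹ = C.el (evR im v) := by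
    intro v
    induction v with
    | nil => intro _; exact ⟨(by norm_num : (0 : ℕ) < 4608), (by norm_num : (0 : ℕ) < 4608), by
        show x * C.el 0 * x⁻¹ = C.el 0; rw [C.one]; group⟩
    | cons j v ih =>
      intro hv
      obtain ⟨l1, l2, l3⟩ := ih fun i hi => hv i (List.mem_cons_of_mem _ hi)
      obtain ⟨m1, m2, m3⟩ := letV_spec C hlt hg (hv j List.mem_cons_self)
      rw [evR_cons, evR_cons]
      refine ⟨mI_lt m1 l1, mI_lt m2 l2, ?_⟩
      rw [← el_mul C m1 l1, ← el_mul C m2 l2, ← m3, ← l3]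
      group
  obtain ⟨l1, -, l3⟩ := key w hj
  refine el_eq_one C l1 ?_
  rw [← l3, hz, C.one]
  group

theorem central {a : ℕ} (ha : a < 4608) :
    C.el a * C.el cvT = C.el cvT * C.el a ∧ C.el a * C.el cvU = C.el cvU * C.el a := by
  refine word_induction (motive := fun a =>
      C.el a * C.el cvT = C.el cvT * C.el a ∧ C.el a * C.el cvU = C.el cvU * C.el a) ?_ ?_ ha
  · rw [C.one]; simp
  · intro j r hj hr h
    have hc := allBelow_spec central_check.1 hj
    simp only [Bool.and_eq_true, Nat.beq_eq] at hc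
    have hT := named_lt.2.2.2
    have e1 : C.el (sel cvG j) * C.el cvT = C.el cvT * C.el (sel cvG j) := by
      rw [el_mul C sel_G hT.1, el_mul C hT.1 sel_G, hc.1]
    have e2 : C.el (sel cvG j) * C.el cvU = C.el cvU * C.el (sel cvG j) := by
      rw [el_mul C sel_G hT.2, el_mul C hT.2 sel_G, hc.2]
    rw [← C.left j r hj hr]
    exact ⟨by rw [mul_assoc, h.1, ← mul_assoc, e1, mul_assoc], by rw [mul_assoc, h.2, ← mul_assoc, e2, mul_assoc]⟩

theorem isTwo_iff {a : ℕ} : isTwo a = true ↔ a ≠ 0 ∧ mI a a = 0 := by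
  simp [isTwo, ← Bool.not_eq_true, Nat.beq_eq]

theorem isThree_iff {a : ℕ} : isThree a = true ↔ a ≠ 0 ∧ mI a (mI a a) = 0 := by
  simp [isThree, ← Bool.not_eq_true, Nat.beq_eq]

theorem isSix_iff {a : ℕ} :
    isSix a = true ↔ (mI a a ≠ 0 ∧ mI a (mI a a) ≠ 0) ∧ mI (mI a a) (mI (mI a a) (mI a a)) = 0 := by
  simp [isSix, ← Bool.not_eq_true, Nat.beq_eq]

theorem parts0 : ∀ m, m < 12 → triplePart 0 m = true
  | 0, _ => triplePart_0_0
  | 1, _ => triplePart_0_1
  | 2, _ => triplePart_0_2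
  | 3, _ => triplePart_0_3
  | 4, _ => triplePart_0_4
  | 5, _ => triplePart_0_5
  | 6, _ => triplePart_0_6
  | 7, _ => triplePart_0_7
  | 8, _ => triplePart_0_8
  | 9, _ => triplePart_0_9
  | 10, _ => triplePart_0_10
  | 11, _ => triplePart_0_11
  | _ + 12, h => absurd h (by omega)

theorem parts1 : ∀ m, m < 5 → triplePart 1 m = true
  | 0, _ => triplePart_1_0
  | 1, _ => triplePart_1_1
  | 2, _ => triplePart_1_2
  | 3, _ => triplePart_1_3
  | 4, _ => triplePart_1_4
  | _ + 5, h => absurd h (by omega)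

theorem parts2 : ∀ m, m < 5 → triplePart 2 m = true
  | 0, _ => triplePart_2_0
  | 1, _ => triplePart_2_1
  | 2, _ => triplePart_2_2
  | 3, _ => triplePart_2_3
  | 4, _ => triplePart_2_4
  | _ + 5, h => absurd h (by omega)

theorem parts3 : ∀ m, m < 5 → triplePart 3 m = true
  | 0, _ => triplePart_3_0
  | 1, _ => triplePart_3_1
  | 2, _ => triplePart_3_2
  | 3, _ => triplePart_3_3
  | 4, _ => triplePart_3_4
  | _ + 5, h => absurd h (by omega)

theorem reps_length : (cvReps.getD 0 (0, [])).2.length ≤ 48 ∧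
    (cvReps.getD 1 (0, [])).2.length ≤ 20 ∧ (cvReps.getD 2 (0, [])).2.length ≤ 20 ∧
    (cvReps.getD 3 (0, [])).2.length ≤ 20 := by decide +kernel

theorem parts_check {k i : ℕ} (hk : k < 4) (hi : i < (cvReps.getD k (0, [])).2.length) :
    triplePart k (i / 4) = true := by
  obtain ⟨h0, h1, h2, h3⟩ := reps_length
  interval_cases k
  · exact parts0 _ (by omega)
  · exact parts1 _ (by omega)
  · exact parts2 _ (by omega)
  · exact parts3 _ (by omega)

theorem triples_check {k : ℕ} (hk : k < 4) : triplesOK k = true := by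
  simp only [triplesOK, List.all_eq_true]
  intro b hb
  obtain ⟨i, hi, rfl⟩ := List.getElem_of_mem hb
  have hm := parts_check hk hi
  simp only [triplePart, List.all_eq_true] at hm
  refine hm _ (List.mem_iff_getElem.2 ⟨i % 4, ?_, ?_⟩)
  · simp only [List.length_take, List.length_drop]; omega
  · simp only [List.getElem_take, List.getElem_drop]
    congr 1
    omega

/-- An element sends the generators to a candidate after a conjugation by an element of the table. -/
theorem exists_cand (x : G) (hnorm : ∀ a, a < 4608 → ∃ b, b < 4608 ∧ x * C.el a * x⁻¹ = C.el b)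
    (hT : x * C.el cvT * x⁻¹ = C.el cvU) (hU : x * C.el cvU * x⁻¹ = C.el cvT) :
    ∃ q ∈ cvCands, ∃ e, e < 4608 ∧ (∀ j, j < 3 → sel q.1 j < 4608) ∧
      ∀ a, a < 4608 → C.el e * x * C.el a * (C.el e * x)⁻¹ = C.el (imI q.1 a) := by
  obtain ⟨a, ha, ea⟩ := hnorm _ (sel_G (j := 0))
  obtain ⟨b, hb, eb⟩ := hnorm _ (sel_G (j := 1))
  obtain ⟨c, hc, ec⟩ := hnorm _ (sel_G (j := 2))
  obtain ⟨hxlt, hylt, hzlt, hTlt, hUlt⟩ := named_lt
  have hmul : ∀ {p q p' q' : ℕ}, p < 4608 → q < 4608 → p' < 4608 → q' < 4608 →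
      x * C.el p * x⁻¹ = C.el p' → x * C.el q * x⁻¹ = C.el q' →
      x * C.el (mI p q) * x⁻¹ = C.el (mI p' q') := by
    intro p q p' q' hp hq hp' hq' e1 e2
    rw [← el_mul C hp hq, ← el_mul C hp' hq', ← e1, ← e2]
    group
  have hzero : ∀ {p p' : ℕ}, p < 4608 → p' < 4608 → x * C.el p * x⁻¹ = C.el p' → (p' = 0 ↔ p = 0) := by
    intro p p' hp hp' e
    constructor
    · rintro rfl
      refine el_eq_one C hp ?_
      rw [C.one] at e
      exact conj_eq_one_iff.1 e
    · rintro rfl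
      refine el_eq_one C hp' ?_
      rw [← e, C.one]
      group
  obtain ⟨h3, h2, h6, hlen⟩ := orders_check
  -- orders of the images
  have ha3 : isThree a = true := by
    rw [isThree_iff] at h3 ⊢
    have l1 := mI_lt hxlt hxlt
    have m1 := hmul hxlt hxlt ha ha ea ea
    refine ⟨fun e => h3.1 ((hzero hxlt ha ea).1 e), ?_⟩
    exact (hzero (mI_lt hxlt l1) (mI_lt ha (mI_lt ha ha)) (hmul hxlt l1 ha (mI_lt ha ha) ea m1)).2 h3.2
  have hb2 : isTwo b = true := by
    rw [isTwo_iff] at h2 ⊢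
    refine ⟨fun e => h2.1 ((hzero hylt hb eb).1 e), ?_⟩
    exact (hzero (mI_lt hylt hylt) (mI_lt hb hb) (hmul hylt hylt hb hb eb eb)).2 h2.2
  -- first normalisation
  have hf := allBelow_spec first_check ha
  simp only [firstOK, ha3, Bool.not_true, Bool.false_or, Bool.and_eq_true, Nat.blt_eq, List.any_eq_true,
    Nat.beq_eq] at hf
  obtain ⟨hd, r, hr, hra⟩ := hf
  obtain ⟨k, hk, hkr⟩ := List.getElem_of_mem hr
  have hk4 : k < 4 := lt_of_lt_of_le hk hlen.le
  have hget : cvReps.getD k (0, []) = r := by rw [List.getD_eq_getElem _ _ hk, hkr]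
  set d := firstTab.get a with hdd
  set b' := cjI d b with hb'
  have hb'lt : b' < 4608 := cjI_lt hd hb
  have hb'2 : isTwo b' = true := by
    rw [isTwo_iff] at hb2 ⊢
    refine ⟨fun e => hb2.1 (el_eq_one C hb ?_), el_eq_one C (mI_lt hb'lt hb'lt) ?_⟩
    · have h := congrArg C.el e
      rw [hb', el_cj C hd hb, C.one] at h
      exact conj_eq_one_iff.1 h
    · rw [← el_mul C hb'lt hb'lt, hb', el_cj C hd hb,
        show C.el d * C.el b * (C.el d)⁻¹ * (C.el d * C.el b * (C.el d)⁻¹) = C.el d * (C.el b * C.el b) * (C.el d)⁻¹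
          by group, el_mul C hb hb, hb2.2, C.one]
      group
  have hs := allBelow_spec (allBelow_spec second_check hk4) hb'lt
  simp only [secondOK, hb'2, Bool.not_true, Bool.false_or, Bool.and_eq_true, Nat.blt_eq, List.any_eq_true,
    Nat.beq_eq, hget] at hs
  obtain ⟨⟨hc2, hfix⟩, b'', hb''mem, hb''⟩ := hs
  set c2 := (secondTabs.getD k (Tab.leaf 0)).get b' with hc2d
  -- the adjusted element
  set e := mI c2 d with he
  have helt : e < 4608 := mI_lt hc2 hd
  set y := C.el e * x with hy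
  have hey : ∀ {p p' : ℕ}, p' < 4608 → x * C.el p * x⁻¹ = C.el p' → y * C.el p * y⁻¹ = C.el (cjI e p') := by
    intro p p' hp' h
    rw [el_cj C helt hp', hy, ← h]
    group
  have hcj2 : ∀ {p : ℕ}, p < 4608 → cjI e p = cjI c2 (cjI d p) := by
    intro p hp
    refine C.inj _ _ (cjI_lt helt hp) (cjI_lt hc2 (cjI_lt hd hp)) ?_
    rw [el_cj C helt hp, el_cj C hc2 (cjI_lt hd hp), el_cj C hd hp, he, ← el_mul C hc2 hd]
    group
  have eA : cjI e a = r.1 := by rw [hcj2 ha, ← hra, hfix]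
  have eB : cjI e b = b'' := by rw [hcj2 hb, ← hb', hb'']
  set im : ℕ × ℕ × ℕ := (r.1, b'', cjI e c) with him
  have hlt : ∀ j, j < 3 → sel im j < 4608 := by
    intro j hj
    interval_cases j
    · show r.1 < 4608; rw [← eA]; exact cjI_lt helt ha
    · show b'' < 4608; rw [← eB]; exact cjI_lt helt hb
    · show cjI e c < 4608; exact cjI_lt helt hc
  have hg : ∀ j, j < 3 → y * C.el (sel cvG j) * y⁻¹ = C.el (sel im j) := by
    intro j hj
    interval_cases j
    · show y * C.el (sel cvG 0) * y⁻¹ = C.el r.1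
      rw [← eA]; exact hey ha ea
    · show y * C.el (sel cvG 1) * y⁻¹ = C.el b''
      rw [← eB]; exact hey hb eb
    · show y * C.el (sel cvG 2) * y⁻¹ = C.el (cjI e c)
      exact hey hc ec
  have him' : ∀ p, p < 4608 → y * C.el p * y⁻¹ = C.el (imI im p) := fun p hp => conj_eq C hlt hg hp
  have hfixT : ∀ {p : ℕ}, p = cvT ∨ p = cvU → cjI e p = p := by
    rintro p (rfl | rfl)
    · refine C.inj _ _ (cjI_lt helt hTlt) hTlt ?_
      rw [el_cj C helt hTlt, (central C helt).1]; group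
    · refine C.inj _ _ (cjI_lt helt hUlt) hUlt ?_
      rw [el_cj C helt hUlt, (central C helt).2]; group
  have hTU : imI im cvT = cvU := by
    refine C.inj _ _ (imI_lt hlt hTlt) hUlt ?_
    rw [← him' _ hTlt, hey hUlt hT, hfixT (Or.inr rfl)]
  have hUT : imI im cvU = cvT := by
    refine C.inj _ _ (imI_lt hlt hUlt) hTlt ?_
    rw [← him' _ hUlt, hey hTlt hU, hfixT (Or.inl rfl)]
  have hc6 : isSix (cjI e c) = true := by
    have hsq : ∀ {p p' : ℕ}, p < 4608 → p' < 4608 → y * C.el p * y⁻¹ = C.el p' → (p' = 0 ↔ p = 0) := by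
      intro p p' hp hp' h
      constructor
      · rintro rfl
        refine el_eq_one C hp ?_
        rw [C.one] at h
        exact conj_eq_one_iff.1 h
      · rintro rfl
        refine el_eq_one C hp' ?_
        rw [← h, C.one]
        group
    have hm : ∀ {p q p' q' : ℕ}, p < 4608 → q < 4608 → p' < 4608 → q' < 4608 →
        y * C.el p * y⁻¹ = C.el p' → y * C.el q * y⁻¹ = C.el q' →
        y * C.el (mI p q) * y⁻¹ = C.el (mI p' q') := by
      intro p q p' q' hp hq hp' hq' e1 e2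
      rw [← el_mul C hp hq, ← el_mul C hp' hq', ← e1, ← e2]
      group
    have hcl := cjI_lt helt hc
    have g0 : y * C.el cvG.2.2 * y⁻¹ = C.el (cjI e c) := hey hc ec
    rw [isSix_iff] at h6 ⊢
    have l1 := mI_lt hzlt hzlt
    have l1' := mI_lt hcl hcl
    have g1 := hm hzlt hzlt hcl hcl g0 g0
    have g2 := hm hzlt l1 hcl l1' g0 g1
    have g3 := hm l1 (mI_lt l1 l1) l1' (mI_lt l1' l1') g1 (hm l1 l1 l1' l1' g1 g1)
    exact ⟨⟨fun h => h6.1.1 ((hsq l1 l1' g1).1 h), fun h => h6.1.2 ((hsq (mI_lt hzlt l1) (mI_lt hcl l1') g2).1 h)⟩,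
      (hsq (mI_lt l1 (mI_lt l1 l1)) (mI_lt l1' (mI_lt l1' l1')) g3).2 h6.2⟩
  have hcmem : cjI e c ∈ cvSix := by
    have h := allBelow_spec six_check (cjI_lt helt hc)
    simp only [sixOK, hc6, Bool.not_true, Bool.false_or, List.any_eq_true, Nat.beq_eq] at h
    obtain ⟨z, hz, hze⟩ := h
    exact hze ▸ hz
  have htr := triples_check hk4
  simp only [triplesOK, hget, List.all_eq_true] at htr
  have hok := htr b'' hb''mem (cjI e c) hcmem
  have hrels : (cvRels.all fun w => Nat.beq (evR im w) 0) = true :=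
    List.all_eq_true.2 fun w hw => Nat.beq_eq.mpr (relator_zero C hlt hg hw)
  rw [← him] at hok
  simp only [tripleOK, hTU, hUT, hrels, Nat.beq_refl, Bool.and_self, Bool.not_true, Bool.false_or, Bool.or_false,
    List.any_eq_true] at hok
  obtain ⟨q, hq, hqe⟩ := hok
  have hqi : q.1 = im := by
    simp only [eqT, Bool.and_eq_true, Nat.beq_eq] at hqe
    exact Prod.ext hqe.1.1 (Prod.ext hqe.1.2 hqe.2)
  exact ⟨q, hq, e, helt, hqi ▸ hlt, hqi ▸ him'⟩

/-- The normal form. -/
theorem exists_normal (s : G) (hs : s * s = 1)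
    (hnorm : ∀ a, a < 4608 → ∃ b, b < 4608 ∧ s * C.el a * s = C.el b) (hT : s * C.el cvT * s = C.el cvU) :
    ∃ im c, (im, Fix.good c) ∈ cvCands ∧
      ∃ s' : G, s' * s' = 1 ∧ ∀ a, a < 4608 → s' * C.el a * s' = C.el (goodImage im c a) := by
  have hsi : s⁻¹ = s := inv_eq_of_mul_eq_one_right hs
  have hU : s * C.el cvU * s = C.el cvT := by
    rw [← hT, show s * (s * C.el cvT * s) * s = (s * s) * C.el cvT * (s * s) by group, hs, one_mul, mul_one]
  obtain ⟨⟨im, fx⟩, hq, e, he, hlt, him⟩ := exists_cand C s (by rwa [hsi]) (by rwa [hsi]) (by rwa [hsi])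
  dsimp only at hlt him
  obtain ⟨e', he', ee'⟩ := hnorm e he
  have hfix := List.all_eq_true.1 fix_check _ hq
  have hTlt := named_lt.2.2.2.1
  have hUlt := named_lt.2.2.2.2
  cases fx with
  | bad =>
    exfalso
    simp only [fixOK] at hfix
    have h := allBelow_spec hfix (mI_lt he he')
    rw [Bool.not_eq_true', ← Bool.not_eq_true] at h
    refine h (allBelow_intro fun j hj => ?_)
    rw [Nat.beq_eq]
    refine C.inj _ _ (imI_lt hlt (imI_lt hlt sel_G)) (cjI_lt (mI_lt he he') sel_G) ?_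
    rw [← him _ (imI_lt hlt sel_G), ← him _ sel_G, el_cj C (mI_lt he he') sel_G, ← el_mul C he he', ← ee']
    simp only [mul_inv_rev, hsi]
    group
  | good c =>
    simp only [fixOK, Bool.and_eq_true, Nat.blt_eq, Nat.beq_eq] at hfix
    obtain ⟨⟨⟨hc, hgT⟩, hgU⟩, hinv⟩ := hfix
    set f := mI c e with hf
    have hflt : f < 4608 := mI_lt hc he
    obtain ⟨f', hf', ef'⟩ := hnorm f hflt
    set x := C.el f * s with hx
    have hx' : ∀ a, a < 4608 → x * C.el a * x⁻¹ = C.el (goodImage im c a) := by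
      intro a ha
      rw [goodImage, el_cj C hc (imI_lt hlt ha), ← him a ha, hx, hf, ← el_mul C hc he]
      group
    have hglt : ∀ {a : ℕ}, a < 4608 → goodImage im c a < 4608 := fun ha => cjI_lt hc (imI_lt hlt ha)
    set z := mI f f' with hz
    have hzlt : z < 4608 := mI_lt hflt hf'
    have hxx : x * x = C.el z := by
      rw [hz, ← el_mul C hflt hf', ← ef', hx]
      simp only [mul_assoc]
    have hzc : ∀ j, j < 3 → C.el z * C.el (sel cvG j) = C.el (sel cvG j) * C.el z := by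
      intro j hj
      have h := allBelow_spec hinv hj
      rw [Nat.beq_eq] at h
      have h2 := hx' _ (hglt (sel_G (j := j)))
      rw [h, ← hx' _ sel_G] at h2
      rw [← hxx]
      calc x * x * C.el (sel cvG j)
          = x * (x * C.el (sel cvG j) * x⁻¹) * x⁻¹ * (x * x) := by group
        _ = _ := by rw [h2]
    have hzmem : z ∈ cvZ := by
      have h := named_check
      simp only [namedOK, Bool.and_eq_true] at h
      have hh := allBelow_spec h.1.1.1.2 hzlt
      simp only [Bool.or_eq_true, List.any_eq_true, Nat.beq_eq] at hh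
      rcases hh with hh | ⟨w, hw, rfl⟩
      · rw [Bool.not_eq_true', ← Bool.not_eq_true] at hh
        refine absurd (allBelow_intro fun j hj => ?_) hh
        rw [Nat.beq_eq]
        refine C.inj _ _ (mI_lt hzlt sel_G) (mI_lt sel_G hzlt) ?_
        rw [← el_mul C hzlt sel_G, ← el_mul C sel_G hzlt]
        exact hzc j hj
      · exact hw
    have hzx : x * C.el z * x⁻¹ = C.el z := by rw [← hxx]; group
    have hxT := hx' _ hTlt
    have hxU := hx' _ hUlt
    rw [hgT] at hxT
    rw [hgU] at hxU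
    obtain ⟨-, hne, hZ⟩ := central_check
    simp only [Bool.or_eq_false_iff] at hne
    have hTU : cvT ≠ cvU := fun h => by rw [h, Nat.beq_refl] at hne; exact absurd hne.1.1 (by decide)
    rw [hZ] at hzmem
    simp only [List.mem_cons, List.not_mem_nil, or_false] at hzmem
    have key : ∀ s' : G, s' * s' = 1 → (∀ a, a < 4608 → s' * C.el a * s'⁻¹ = C.el (goodImage im c a)) →
        ∃ im c, (im, Fix.good c) ∈ cvCands ∧
          ∃ s' : G, s' * s' = 1 ∧ ∀ a, a < 4608 → s' * C.el a * s' = C.el (goodImage im c a) := by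
      intro s' h1 h2
      refine ⟨im, c, hq, s', h1, fun a ha => ?_⟩
      have h3 := h2 a ha
      rwa [inv_eq_of_mul_eq_one_right h1] at h3
    rcases hzmem with h | h | h | h
    · exact key x (by rw [hxx, h, C.one]) hx'
    · rw [h, hxT] at hzx
      exact absurd (C.inj _ _ hUlt hTlt hzx).symm hTU
    · rw [h, hxU] at hzx
      exact absurd (C.inj _ _ hTlt hUlt hzx) hTU
    · refine key (x * C.el cvT) ?_ fun a ha => ?_
      · have hnamed := named_check
        simp only [namedOK, Bool.and_eq_true, Nat.beq_eq] at hnamed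
        calc x * C.el cvT * (x * C.el cvT) = (x * C.el cvT * x⁻¹) * (x * x) * C.el cvT := by group
          _ = C.el cvU * (C.el cvT * C.el cvU) * C.el cvT := by rw [hxT, hxx, h, el_mul C hTlt hUlt]
          _ = C.el cvU * (C.el cvU * C.el cvT) * C.el cvT := by rw [(central C hTlt).2]
          _ = (C.el cvU * C.el cvU) * (C.el cvT * C.el cvT) := by group
          _ = 1 := by
            rw [el_mul C hUlt hUlt, el_mul C hTlt hTlt, hnamed.1.1.1.1.1.1.2, hnamed.1.1.1.1.1.2, C.one, one_mul]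
      · rw [← hx' a ha, mul_inv_rev]
        calc x * C.el cvT * C.el a * ((C.el cvT)⁻¹ * x⁻¹) = x * (C.el cvT * C.el a) * (C.el cvT)⁻¹ * x⁻¹ := by group
          _ = x * (C.el a * C.el cvT) * (C.el cvT)⁻¹ * x⁻¹ := by rw [(central C ha).1]
          _ = _ := by group

end

end Cfsg.Agent.CoThreeSp6
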