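import Cfsg.Agent.Lib.CoThreeSp6.BetaData

/-! The checks for the automorphisms of the centraliser of order 4608. -/

set_option autoImplicit false
set_option maxRecDepth 100000

namespace Cfsg.Agent.CoThreeSp6

open Cfsg.Agent.CosetCert (Tab allBelow)

noncomputable section

/-- Left multiplication by a generator. -/
def leftI (j a : ℕ) : ℕ := leftTab.get (Nat.add (Nat.mul 3 a) j)

/-- The word code of an element. -/
def wordI (a : ℕ) : ℕ := Nat.add (wordTab.get (Nat.mul 2 a)) (Nat.mul 65536 (wordTab.get (Nat.add (Nat.mul 2 a) 1)))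

/-- Apply the letters of a word code, outermost first, to a starting point. -/
def actW (f : ℕ → ℕ → ℕ) (b : ℕ) (fuel : ℕ) : ℕ → ℕ :=
  Nat.rec (motive := fun _ => ℕ → ℕ) (fun _ => b)
    (fun _ r w => Bool.rec (f (Nat.sub (Nat.mod w 4) 1) (r (Nat.div w 4))) b (Nat.beq w 0)) fuel

/-- The product of two element numbers. -/
def mI (a b : ℕ) : ℕ := actW leftI b 16 (wordI a)

/-- Inverse. -/
def invI (a : ℕ) : ℕ := invTab.get a

/-- Conjugate. -/
def cjI (c a : ℕ) : ℕ := mI (mI c a) (invI c)

/-- An entry of a triple. -/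
def sel (im : ℕ × ℕ × ℕ) (j : ℕ) : ℕ :=
  Bool.rec (Bool.rec im.2.2 im.2.1 (Nat.beq j 1)) im.1 (Nat.beq j 0)

/-- The image of an element under the map given on the generators. -/
def imI (im : ℕ × ℕ × ℕ) (a : ℕ) : ℕ := actW (fun j e => mI (sel im j) e) 0 16 (wordI a)

/-- The word code ends within the fuel. -/
def fuelOK (fuel : ℕ) : ℕ → Bool :=
  Nat.rec (motive := fun _ => ℕ → Bool) (fun w => Nat.beq w 0)
    (fun _ r w => Bool.rec (!Nat.beq (Nat.mod w 4) 0 && r (Nat.div w 4)) true (Nat.beq w 0)) fuel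

/-- Words give their elements; left multiplication stays in range. -/
def wordOK (a : ℕ) : Bool :=
  Nat.beq (mI a 0) a && fuelOK 16 (wordI a) && allBelow (fun j => Nat.blt (leftI j a) 4608) 3 &&
    Nat.beq (mI a (invI a)) 0 && Nat.blt (invI a) 4608

/-- An element of order three. -/
def isThree (a : ℕ) : Bool := !Nat.beq a 0 && Nat.beq (mI a (mI a a)) 0

/-- An element of order two. -/
def isTwo (a : ℕ) : Bool := !Nat.beq a 0 && Nat.beq (mI a a) 0

/-- An element of order six. -/
def isSix (a : ℕ) : Bool :=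
  let b := mI a a
  !Nat.beq b 0 && !Nat.beq (mI a b) 0 && Nat.beq (mI b (mI b b)) 0

/-- Elements of order three go to representatives. -/
def firstOK (a : ℕ) : Bool :=
  !isThree a || (Nat.blt (firstTab.get a) 4608 && cvReps.any fun q => Nat.beq q.1 (cjI (firstTab.get a) a))

/-- Involutions go to representatives under the centraliser of a first representative. -/
def secondOK (k a : ℕ) : Bool :=
  !isTwo a ||
    (let c := (secondTabs.getD k (Tab.leaf 0)).get a
     let q := cvReps.getD k (0, [])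
     Nat.blt c 4608 && Nat.beq (cjI c q.1) q.1 && q.2.any (Nat.beq (cjI c a)))

/-- Elements of order six are listed. -/
def sixOK (a : ℕ) : Bool := !isSix a || cvSix.any (Nat.beq a)

/-- Equality of triples. -/
def eqT (p q : ℕ × ℕ × ℕ) : Bool := Nat.beq p.1 q.1 && Nat.beq p.2.1 q.2.1 && Nat.beq p.2.2 q.2.2

/-- A letter of a relator under a triple. -/
def letV (im : ℕ × ℕ × ℕ) (j : ℕ) : ℕ :=
  Bool.rec (invI (sel im (Nat.sub j 3))) (sel im j) (Nat.blt j 3)

/-- A relator under a triple. -/
def evR (im : ℕ × ℕ × ℕ) (w : List ℕ) : ℕ := List.rec 0 (fun j _ r => mI (letV im j) r) w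

/-- A triple exchanging the two involutions is a candidate or violates a relator. -/
def tripleOK (im : ℕ × ℕ × ℕ) : Bool :=
  !(Nat.beq (imI im cvT) cvU && Nat.beq (imI im cvU) cvT) || cvCands.any (fun q => eqT q.1 im) ||
    !cvRels.all (fun w => Nat.beq (evR im w) 0)

/-- The triples over one first representative. -/
def triplesOK (k : ℕ) : Bool :=
  let q := cvReps.getD k (0, [])
  q.2.all fun b => cvSix.all fun c => tripleOK (q.1, b, c)

/-- The map of a candidate followed by a conjugation. -/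
def goodImage (im : ℕ × ℕ × ℕ) (c a : ℕ) : ℕ := cjI c (imI im a)

/-- A witness. -/
def fixOK : (ℕ × ℕ × ℕ) × Fix → Bool
  | (im, .good c) =>
    Nat.blt c 4608 && Nat.beq (goodImage im c cvT) cvU && Nat.beq (goodImage im c cvU) cvT &&
      allBelow (fun j => Nat.beq (goodImage im c (goodImage im c (sel cvG j))) (sel cvG j)) 3
  | (im, .bad) =>
    allBelow (fun d => !(allBelow (fun j => Nat.beq (imI im (imI im (sel cvG j))) (cjI d (sel cvG j))) 3)) 4608

/-- The facts about the named elements. -/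
def namedOK : Bool :=
  Nat.blt cvG.1 4608 && Nat.blt cvG.2.1 4608 && Nat.blt cvG.2.2 4608 && Nat.blt cvT 4608 && Nat.blt cvU 4608 &&
    isThree cvG.1 && isTwo cvG.2.1 && isSix cvG.2.2 &&
    allBelow (fun j => Nat.beq (leftI j 0) (sel cvG j)) 3 && Nat.beq (wordI 0) 0 &&
    Nat.beq cvReps.length 4 && Nat.beq (mI cvT cvT) 0 && Nat.beq (mI cvU cvU) 0 &&
    cvRels.all (fun w => Nat.beq (evR cvG w) 0 && w.all fun j => Nat.blt j 6) &&
    allBelow (fun a => !(allBelow (fun j => Nat.beq (mI a (sel cvG j)) (mI (sel cvG j) a)) 3) ||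
      cvZ.any (Nat.beq a)) 4608 &&
    cvCands.all (fun q => Nat.blt q.1.1 4608 && Nat.blt q.1.2.1 4608 && Nat.blt q.1.2.2 4608) &&
    Nat.beq (imI cvB cvT) cvU && Nat.beq (imI cvB cvU) cvT

end

end Cfsg.Agent.CoThreeSp6
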