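import Cfsg.Agent.Lib.CoThreeSp6.BetaDefs

/-! Kernel checks of the table of the centraliser of order 4608. -/

set_option autoImplicit false
set_option maxRecDepth 100000
set_option Elab.async false

namespace Cfsg.Agent.CoThreeSp6

open Cfsg.Agent.CosetCert (allBelow)

theorem word_check : allBelow wordOK 4608 = true := by decide +kernel
theorem named_check : namedOK = true := by decide +kernel
theorem six_check : allBelow sixOK 4608 = true := by decide +kernel

end Cfsg.Agent.CoThreeSp6
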