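import Cfsg.Agent.Lib.CoThreeSp6.CVDefs

/-! Kernel checks of the class and of the elementary groups. -/

set_option autoImplicit false
set_option maxRecDepth 100000
set_option Elab.async false

namespace Cfsg.Agent.CoThreeSp6

open Cfsg.Agent.PermCert

theorem gens_check : gensOK = true := by decide +kernel

theorem orb_check : CosetCert.allBelow orbOK 630 = true := by decide +kernel

theorem orb_distinct : distinctKeys orbCodes = true ∧ orbCodes.length = 630 := by decide +kernel

theorem elemE_check : elemOK cvE cvEBasis eCodes = true := by decide +kernel

theorem elemF_check : elemOK cvF cvFBasis fCodes = true := by decide +kernel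

end Cfsg.Agent.CoThreeSp6
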