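import Cfsg.Agent.Lib.CoThreeSp6.BetaDefs
import Cfsg.Agent.Lib.CoThreeSp6.CVData
import Cfsg.Agent.Lib.CoThreeSp6.GenData
import Cfsg.Agent.Lib.SporPerm.Co3Data

/-! Checks linking the table of order 4608 to the coded Co3. -/

set_option autoImplicit false
set_option maxRecDepth 100000

namespace Cfsg.Agent.CoThreeSp6

open Cfsg.Agent.PermCert Cfsg.Agent.SporPerm

noncomputable section

/-- The code pair of a generator of the table. -/
def gElt (j : ℕ) : Elt := cvGCodes.getD j (one 9 276)

/-- The product of a word in coded generators. -/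
def wordC (gens : List Elt) : List ℕ → Elt :=
  fun l => List.rec (one 9 276) (fun k _ r => mul 9 276 (gens.getD k (one 9 276)) r) l

/-- The normal form of a code. -/
def packK (c : ℕ) : ℕ := pack 9 (fun i => get 9 c i) 276

/-- An element of the coded Co3. -/
def inCo3 (e : Elt) : Bool := validElt 9 276 e && sift 9 276 co3Levels e.1

/-- The image of a base point. -/
def rowI (a i : ℕ) : ℕ := baseTab.get (Nat.add (Nat.mul 6 a) i)

/-- The images of the base points as one number. -/
def keyI (a : ℕ) : ℕ :=
  Nat.rec 0 (fun i r => Nat.add (Nat.mul 276 r) (rowI a i)) 6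

/-- A code agrees on the base with an element. -/
def rowIs (c a : ℕ) : Bool := CosetCert.allBelow (fun i => Nat.beq (rowI a i) (get 9 c i)) 6

/-- Left multiplication by the generators moves the images of the base points. -/
def rowsOK (a : ℕ) : Bool :=
  CosetCert.allBelow (fun i => Nat.blt (rowI a i) 276 &&
    CosetCert.allBelow (fun j => Nat.beq (rowI (leftI j a) i) (get 9 (gElt j).1 (rowI a i))) 3) 6

/-- The images of the base points determine the element. -/
def rankOK (a : ℕ) : Bool :=
  Nat.blt (rankTab.get a) 4608 && Nat.beq (ordTab.get (rankTab.get a)) a &&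
    (Nat.beq a 4607 || Nat.blt (keyI (ordTab.get a)) (keyI (ordTab.get (Nat.succ a))))

/-- The generators lie in the model centraliser, commute with the two involutions and are moved as stated. -/
def gensOK : Bool :=
  Nat.beq cvGCodes.length 3 && Nat.beq cvGWords.length 3 &&
    CosetCert.allBelow (fun j =>
      inCo3 (gElt j) && Nat.beq (wordC cCodes (cvGWords.getD j [])).1 (packK (gElt j).1) &&
      Nat.beq (comp 9 276 (gElt j).1 tCode.1) (comp 9 276 tCode.1 (gElt j).1) &&
      Nat.beq (comp 9 276 (gElt j).1 uCode.1) (comp 9 276 uCode.1 (gElt j).1) &&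
      rowIs (comp 9 276 (comp 9 276 sCode.1 (gElt j).1) sCode.1) (sel cvB j)) 3 &&
    rowIs (idCode 9 276) 0 && rowIs tCode.1 cvT && rowIs uCode.1 cvU &&
    inCo3 tCode && inCo3 uCode && inCo3 sCode && cCodes.all inCo3 && Nat.beq cCodes.length 7 &&
    cCodes.all (fun e => Nat.beq (comp 9 276 e.1 e.1) (idCode 9 276) &&
      Nat.beq (comp 9 276 e.1 tCode.1) (comp 9 276 tCode.1 e.1)) &&
    Nat.beq (comp 9 276 sCode.1 sCode.1) (idCode 9 276) && co3Levels.map Prod.fst == [0, 1, 2, 3, 4, 5]

/-- A member of the class. -/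
def orbCode (i : ℕ) : ℕ := orbCodes.getD i 0

/-- A member is a conjugate of an earlier one. -/
def orbOK (i : ℕ) : Bool :=
  let q := orbTree.getD i (0, 0)
  Nat.beq (packK (orbCode i)) (orbCode i) &&
    bif Nat.beq i 0 then Nat.beq (orbCode i) (packK uCode.1)
    else Nat.blt q.1 i && Nat.blt q.2 7 &&
      Nat.beq (comp 9 276 (comp 9 276 (cCodes.getD q.2 (one 9 276)).1 (orbCode q.1))
        (cCodes.getD q.2 (one 9 276)).1) (orbCode i)

/-- The span of a basis. -/
def spanI (bs : List ℕ) : List ℕ := List.rec [0] (fun b _ L => L ++ L.map (mI b)) bs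

/-- An elementary group in the table. -/
def elemOK (L B : List ℕ) (C : List Elt) : Bool :=
  (B.zip C).all (fun q => validElt 9 276 q.2 && rowIs q.2.1 q.1 && inCo3 q.2) && Nat.beq B.length C.length &&
    B.all (fun b => Nat.blt b 4608 && L.all fun e => L.any (Nat.beq (mI b e))) &&
    L.all (fun e => Nat.blt e 4608 && (spanI B).any (Nat.beq e)) &&
    L.any (Nat.beq 0) && L.any (Nat.beq cvT) && L.any (Nat.beq cvU) &&
    CosetCert.allBelow (fun a => !(B.all fun e => Nat.beq (mI a e) (mI e a)) || L.any (Nat.beq a)) 4608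

end

end Cfsg.Agent.CoThreeSp6
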