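import Cfsg.Agent.Lib.CoThreeSp6.CVDefs

/-! Kernel checks of the images of the base points. -/

set_option autoImplicit false
set_option maxRecDepth 100000
set_option Elab.async false

namespace Cfsg.Agent.CoThreeSp6

open Cfsg.Agent.PermCert

theorem rows_check : CosetCert.allBelow rowsOK 4608 = true := by decide +kernel

theorem rank_check : CosetCert.allBelow rankOK 4608 = true := by decide +kernel

end Cfsg.Agent.CoThreeSp6
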