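import Cfsg.Agent.Lib.CoThreeSp6.Beta
import Cfsg.Agent.Lib.CoThreeSp6.CVRows
import Cfsg.Agent.Lib.CoThreeSp6.CVClass
import Cfsg.Agent.Lib.SporPerm.Co3Model
import Cfsg.Agent.Lib.McLInvol.Main

/-!
The common centraliser, in the model centraliser, of the central involution and its partner has 4608 elements and
multiplies as the table says.
-/

set_option autoImplicit false
set_option maxRecDepth 100000
set_option Elab.async false

namespace Cfsg.Agent.CoThreeSp6

open Cfsg.Agent.PermCert Cfsg.Agent.SporPerm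
open Cfsg.Agent.McLInvol (fwd_comp fwd_id eq_of_fwd comp_eq_of)
open Cfsg.Agent.PermAut (Fwd fwd_rep)

noncomputable section

attribute [local irreducible] cvGCodes cvGWords ordTab rankTab orbCodes orbTree cCodes eCodes fCodes tCode uCode sCode
  co3Gens co3Levels co3Derived baseTab leftTab wordTab invTab cvCands

/-- The coded Co3. -/
abbrev MG3 : Subgroup (Equiv.Perm (Fin 276)) := genGroup 9 276 co3Gens

theorem inCo3_mem {e : Elt} (h : inCo3 e = true) : validElt 9 276 e = true ∧ toPerm 9 276 e ∈ MG3 := by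
  simp only [inCo3, Bool.and_eq_true] at h
  exact ⟨h.1, cert_mem co3_cert h.1 h.2⟩

theorem fwd_toPerm {e : Elt} (h : validElt 9 276 e = true) : Fwd 9 (e.1, toPerm 9 276 e) := fwd_rep (rep_toPerm h)

theorem fwd_eq {a b : ℕ} {α β : Equiv.Perm (Fin 276)} (ha : Fwd 9 (a, α)) (hb : Fwd 9 (b, β)) (e : a = b) : α = β :=
  eq_of_fwd (e ▸ ha) hb

theorem packK_eq_of_fwd {c d : ℕ} {σ : Equiv.Perm (Fin 276)} (hc : Fwd 9 (c, σ)) (hd : Fwd 9 (d, σ)) :
    packK c = packK d := by
  have key : ∀ n, n ≤ 276 → pack 9 (fun i => get 9 c i) n = pack 9 (fun i => get 9 d i) n := by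
    intro n
    induction n with
    | zero => intro _; rfl
    | succ n ih =>
      intro hn
      rw [pack_succ, pack_succ, ih (by omega), show get 9 c n = get 9 d n from (hc ⟨n, by omega⟩).trans (hd ⟨n, by omega⟩).symm]
  exact key 276 le_rfl

theorem fwd_packK {c : ℕ} {σ : Equiv.Perm (Fin 276)} (h : Fwd 9 (c, σ)) : Fwd 9 (packK c, σ) := by
  intro i
  show get 9 (packK c) i = (σ i : ℕ)
  rw [packK, get_pack _ _ _ _ i.2, Nat.mod_eq_of_lt (get_lt _ _ _)]
  exact h i

/-- A stabiliser chain's element fixing all base points is trivial. -/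
theorem eq_one_of_fix {G α : Type*} [Group G] [MulAction G α] : ∀ L : List (PermCert.Level G α), Good L →
    ∀ x ∈ prodSet L, (∀ l ∈ L, x • l.1 = l.1) → x = 1
  | [], _, x, hx, _ => hx
  | (b, S, T) :: L, hg, x, hx, hf => by
    obtain ⟨t, ht, h, hh, rfl⟩ := hx
    have hb : h • b = b := fix_of_mem_prodSet hg hh
    have htb : t • b = b := by
      have := hf (b, S, T) List.mem_cons_self
      rwa [mul_smul, hb] at this
    have h1 : t = 1 := by
      refine List.inj_on_of_nodup_map hg.2.2.2.2.1 ht hg.2.2.2.1 ?_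
      show t • b = (1 : G) • b
      rw [htb, one_smul]
    subst h1
    rw [one_mul] at hf ⊢
    exact eq_one_of_fix L hg.1 h hh fun l hl => hf l (List.mem_cons_of_mem _ hl)

theorem interp_base {n : ℕ} [NeZero n] : ∀ (L : List CLevel),
    ∀ l ∈ interp 9 n L, ∃ b ∈ L.map Prod.fst, l.1 = Fin.ofNat n b
  | [], l, hl => absurd hl (by simp [interp])
  | (b, S, T) :: L, l, hl => by
    simp only [interp, List.mem_cons] at hl
    rcases hl with rfl | hl
    · exact ⟨b, List.mem_cons_self, rfl⟩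
    · obtain ⟨c, hc, e⟩ := interp_base L l hl
      exact ⟨c, List.mem_cons_of_mem _ hc, e⟩

/-- The gathered facts about the generators. -/
theorem gens_facts :
    (∀ j, j < 3 → (inCo3 (gElt j) = true ∧ (wordC cCodes (cvGWords.getD j [])).1 = packK (gElt j).1) ∧
      comp 9 276 (gElt j).1 tCode.1 = comp 9 276 tCode.1 (gElt j).1 ∧
      comp 9 276 (gElt j).1 uCode.1 = comp 9 276 uCode.1 (gElt j).1 ∧
      rowIs (comp 9 276 (comp 9 276 sCode.1 (gElt j).1) sCode.1) (sel cvB j) = true) ∧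
    (rowIs (idCode 9 276) 0 = true ∧ rowIs tCode.1 cvT = true ∧ rowIs uCode.1 cvU = true) ∧
    (inCo3 tCode = true ∧ inCo3 uCode = true ∧ inCo3 sCode = true ∧ (∀ e ∈ cCodes, inCo3 e = true) ∧
      cCodes.length = 7) ∧
    (∀ e ∈ cCodes, comp 9 276 e.1 e.1 = idCode 9 276 ∧ comp 9 276 e.1 tCode.1 = comp 9 276 tCode.1 e.1) ∧
    comp 9 276 sCode.1 sCode.1 = idCode 9 276 ∧ co3Levels.map Prod.fst = [0, 1, 2, 3, 4, 5] := by
  have h := gens_check
  simp only [gensOK, Bool.and_eq_true, List.all_eq_true, Nat.beq_eq, beq_iff_eq] at h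
  obtain ⟨⟨⟨⟨⟨⟨⟨⟨⟨⟨⟨⟨-, hj⟩, h1⟩, h2⟩, h3⟩, h4⟩, h5⟩, h6⟩, h7⟩, h8⟩, h9⟩, h10⟩, h11⟩ := h
  refine ⟨fun j hj3 => ?_, ⟨h1, h2, h3⟩, ⟨h4, h5, h6, h7, h8⟩, h9, h10, h11⟩
  have := CosetCert.allBelow_spec hj hj3
  simp only [Bool.and_eq_true, Nat.beq_eq] at this
  obtain ⟨⟨⟨⟨a1, a2⟩, a3⟩, a4⟩, a5⟩ := this
  exact ⟨⟨a1, a2⟩, a3, a4, a5⟩

/-- An element of the coded Co3 is determined by six images. -/
theorem eq_of_base {σ τ : Equiv.Perm (Fin 276)} (hσ : σ ∈ MG3) (hτ : τ ∈ MG3)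
    (h : ∀ i : Fin 276, (i : ℕ) < 6 → σ i = τ i) : σ = τ := by
  have hg := cert_good (n := 276) co3_cert
  have hx : τ⁻¹ * σ ∈ prodSet (interp 9 276 co3Levels) := by
    rw [prodSet_eq _ hg.1, ← closure_carrier, SetLike.mem_coe, hg.2]
    exact mul_mem (inv_mem hτ) hσ
  refine (inv_mul_eq_one.1 (eq_one_of_fix _ hg.1 _ hx fun l hl => ?_)).symm
  obtain ⟨b, hb, e⟩ := interp_base co3Levels l hl
  rw [gens_facts.2.2.2.2.2] at hb
  have hb6 : b < 6 := by fin_cases hb <;> norm_num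
  have hv : ((Fin.ofNat 276 b : Fin 276) : ℕ) < 6 := by
    rw [Fin.val_ofNat, Nat.mod_eq_of_lt (by omega)]
    exact hb6
  rw [e, Equiv.Perm.smul_def, Equiv.Perm.mul_apply, h _ hv]
  exact τ.symm_apply_apply _

theorem rows_spec {a i : ℕ} (ha : a < 4608) (hi : i < 6) :
    rowI a i < 276 ∧ ∀ j, j < 3 → rowI (leftI j a) i = get 9 (gElt j).1 (rowI a i) := by
  have h := CosetCert.allBelow_spec (CosetCert.allBelow_spec rows_check ha) hi
  simp only [Bool.and_eq_true, Nat.blt_eq] at h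
  exact ⟨h.1, fun j hj => Nat.eq_of_beq_eq_true (CosetCert.allBelow_spec h.2 hj)⟩

/-- The permutation of a generator of the table. -/
def gPerm (j : ℕ) : Equiv.Perm (Fin 276) := toPerm 9 276 (gElt j)

/-- The product of the letters of a word code. -/
def evG (fuel : ℕ) : ℕ → Equiv.Perm (Fin 276) :=
  Nat.rec (motive := fun _ => ℕ → Equiv.Perm (Fin 276)) (fun _ => 1)
    (fun _ r w => Bool.rec (gPerm (Nat.sub (Nat.mod w 4) 1) * r (Nat.div w 4)) 1 (Nat.beq w 0)) fuel

theorem evG_succ (n w : ℕ) :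
    evG (n + 1) w = Bool.rec (gPerm (Nat.sub (Nat.mod w 4) 1) * evG n (Nat.div w 4)) 1 (Nat.beq w 0) := rfl

/-- The permutation of an element. -/
def cvPerm (a : ℕ) : Equiv.Perm (Fin 276) := evG 16 (wordI a)

theorem gPerm_mem {j : ℕ} (hj : j < 3) : gPerm j ∈ MG3 := (inCo3_mem (gens_facts.1 j hj).1.1).2

theorem fwd_gPerm {j : ℕ} (hj : j < 3) : Fwd 9 ((gElt j).1, gPerm j) :=
  fwd_toPerm (inCo3_mem (gens_facts.1 j hj).1.1).1

/-- Evaluation of a word code in numbers and in permutations. -/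
theorem walkG {P : ℕ → Equiv.Perm (Fin 276) → Prop} (h0 : P 0 1)
    (hs : ∀ j r q, j < 3 → P r q → P (leftI j r) (gPerm j * q)) :
    ∀ n w, fuelOK n w = true → P (actW leftI 0 n w) (evG n w)
  | 0, w, _ => h0
  | n + 1, w, h => by
    rw [fuelOK_succ] at h
    rw [actW_succ, evG_succ]
    cases hw : Nat.beq w 0 with
    | true => exact h0
    | false =>
      rw [hw] at h
      simp only [Bool.and_eq_true, Bool.not_eq_true'] at h
      refine hs _ _ _ ?_ (walkG h0 hs n _ h.2)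
      have h4 : Nat.mod w 4 < 4 := Nat.mod_lt _ (by norm_num)
      have h5 : Nat.mod w 4 ≠ 0 := fun e => by rw [e] at h; exact absurd h.1 (by decide)
      show w % 4 - 1 < 3
      have h4' : w % 4 < 4 := h4
      have h5' : w % 4 ≠ 0 := h5
      omega

theorem cvPerm_spec {a : ℕ} (ha : a < 4608) :
    cvPerm a ∈ MG3 ∧ ∀ i : Fin 276, (i : ℕ) < 6 → (cvPerm a i : ℕ) = rowI a i := by
  obtain ⟨h1, h2, -, -⟩ := word_spec ha
  have h : mI a 0 < 4608 ∧ cvPerm a ∈ MG3 ∧ ∀ i : Fin 276, (i : ℕ) < 6 → (cvPerm a i : ℕ) = rowI (mI a 0) i := by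
    refine walkG (P := fun r q => r < 4608 ∧ q ∈ MG3 ∧ ∀ i : Fin 276, (i : ℕ) < 6 → (q i : ℕ) = rowI r i)
      ⟨by norm_num, one_mem _, fun i hi => ?_⟩ ?_ 16 _ h2
    · have h := CosetCert.allBelow_spec gens_facts.2.1.1 hi
      rw [Nat.beq_eq] at h
      rw [h, get_idCode _ _ _ (by norm_num) i.2]
      rfl
    · intro j r q hj h
      refine ⟨leftI_lt hj h.1, mul_mem (gPerm_mem hj) h.2.1, fun i hi => ?_⟩
      rw [Equiv.Perm.mul_apply, (rows_spec h.1 hi).2 j hj, ← h.2.2 i hi]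
      exact (fwd_gPerm hj (q i)).symm
  rw [h1] at h
  exact ⟨h.2.1, h.2.2⟩

theorem cvPerm_mem3 {a : ℕ} (ha : a < 4608) : cvPerm a ∈ MG3 := (cvPerm_spec ha).1

/-- An element of the coded Co3 with the images of an element of the table is that element. -/
theorem eq_cvPerm {σ : Equiv.Perm (Fin 276)} {a c : ℕ} (hσ : σ ∈ MG3) (hc : Fwd 9 (c, σ)) (ha : a < 4608)
    (h : rowIs c a = true) : σ = cvPerm a := by
  refine eq_of_base hσ (cvPerm_mem3 ha) fun i hi => Fin.ext ?_
  rw [(cvPerm_spec ha).2 i hi, Nat.eq_of_beq_eq_true (CosetCert.allBelow_spec h hi)]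
  exact (hc i).symm

theorem cvPerm_left {j a : ℕ} (hj : j < 3) (ha : a < 4608) : gPerm j * cvPerm a = cvPerm (leftI j a) := by
  refine eq_of_base (mul_mem (gPerm_mem hj) (cvPerm_mem3 ha)) (cvPerm_mem3 (leftI_lt hj ha)) fun i hi => Fin.ext ?_
  rw [(cvPerm_spec (leftI_lt hj ha)).2 i hi, (rows_spec ha hi).2 j hj, ← (cvPerm_spec ha).2 i hi,
    Equiv.Perm.mul_apply]
  exact (fwd_gPerm hj (cvPerm a i)).symm

theorem cvPerm_one : cvPerm 0 = 1 :=
  (eq_cvPerm (one_mem _) (fwd_id (by norm_num)) (by norm_num) gens_facts.2.1.1).symm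

theorem named_left : ∀ j, j < 3 → leftI j 0 = sel cvG j := by decide +kernel

theorem cvPerm_gen {j : ℕ} (hj : j < 3) : cvPerm (sel cvG j) = gPerm j := by
  rw [← named_left j hj, ← cvPerm_left hj (by norm_num), cvPerm_one, mul_one]

theorem keyI_eq (a : ℕ) : keyI a = 276 * (276 * (276 * (276 * (276 * (276 * 0 + rowI a 0) + rowI a 1) + rowI a 2) +
    rowI a 3) + rowI a 4) + rowI a 5 := rfl

theorem cvPerm_inj {a b : ℕ} (ha : a < 4608) (hb : b < 4608) (h : cvPerm a = cvPerm b) : a = b := by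
  have hk : keyI a = keyI b := by
    have hr : ∀ i, i < 6 → rowI a i = rowI b i := fun i hi => by
      have h1 := (cvPerm_spec ha).2 ⟨i, by omega⟩ hi
      have h2 := (cvPerm_spec hb).2 ⟨i, by omega⟩ hi
      rw [h] at h1
      exact h1.symm.trans h2
    rw [keyI_eq, keyI_eq, hr 0 (by norm_num), hr 1 (by norm_num), hr 2 (by norm_num), hr 3 (by norm_num),
      hr 4 (by norm_num), hr 5 (by norm_num)]
  have hspec : ∀ {x : ℕ}, x < 4608 → rankTab.get x < 4608 ∧ ordTab.get (rankTab.get x) = x ∧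
      (x ≠ 4607 → keyI (ordTab.get x) < keyI (ordTab.get (x + 1))) := by
    intro x hx
    have := CosetCert.allBelow_spec rank_check hx
    simp only [rankOK, Bool.and_eq_true, Nat.blt_eq, Nat.beq_eq, Bool.or_eq_true] at this
    exact ⟨this.1.1, this.1.2, fun hne => this.2.resolve_left hne⟩
  have hmono : ∀ d i, i + d < 4608 → keyI (ordTab.get i) ≤ keyI (ordTab.get (i + d)) ∧
      (0 < d → keyI (ordTab.get i) < keyI (ordTab.get (i + d))) := by
    intro d
    induction d with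
    | zero => intro i _; exact ⟨le_rfl, fun h => absurd h (lt_irrefl 0)⟩
    | succ d ih =>
      intro i hi
      have h1 := (ih i (by omega)).1
      have h2 := (hspec (x := i + d) (by omega)).2.2 (by omega)
      rw [Nat.add_assoc] at h2
      exact ⟨by omega, fun _ => by omega⟩
  obtain ⟨la, ea, -⟩ := hspec ha
  obtain ⟨lb, eb, -⟩ := hspec hb
  rcases lt_trichotomy (rankTab.get a) (rankTab.get b) with h1 | h1 | h1
  · have := (hmono (rankTab.get b - rankTab.get a) (rankTab.get a) (by omega)).2 (by omega)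
    rw [Nat.add_sub_cancel' h1.le, ea, eb, hk] at this
    exact absurd this (lt_irrefl _)
  · rw [← ea, h1, eb]
  · have := (hmono (rankTab.get a - rankTab.get b) (rankTab.get b) (by omega)).2 (by omega)
    rw [Nat.add_sub_cancel' h1.le, ea, eb, hk] at this
    exact absurd this (lt_irrefl _)

/-- The model table. -/
def modelCopy : Copy (Equiv.Perm (Fin 276)) where
  el := cvPerm
  left j a hj ha := by rw [cvPerm_gen hj, cvPerm_left hj ha]
  one := cvPerm_one
  inj _ _ := cvPerm_inj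

theorem cvPerm_mul {a b : ℕ} (ha : a < 4608) (hb : b < 4608) : cvPerm a * cvPerm b = cvPerm (mI a b) :=
  el_mul modelCopy ha hb

theorem rep_wordC {gens : List Elt} {K : Subgroup (Equiv.Perm (Fin 276))}
    (h : ∀ e ∈ gens, ∃ σ ∈ K, Rep 9 e σ) : ∀ l : List ℕ, ∃ σ ∈ K, Rep 9 (wordC gens l) σ
  | [] => ⟨1, one_mem _, rep_one (by norm_num)⟩
  | k :: l => by
    obtain ⟨τ, hτ, rτ⟩ := rep_wordC h l
    obtain ⟨σ, hσ, rσ⟩ : ∃ σ ∈ K, Rep 9 (gens.getD k (one 9 276)) σ := by
      by_cases hk : k < gens.length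
      · rw [List.getD_eq_getElem _ _ hk]
        exact h _ (List.getElem_mem _)
      · rw [List.getD_eq_default _ _ (by omega)]
        exact ⟨1, one_mem _, rep_one (by norm_num)⟩
    exact ⟨σ * τ, mul_mem hσ hτ, rep_mul rσ rτ⟩

theorem rep_cWord (l : List ℕ) : ∃ σ ∈ modelC, Rep 9 (wordC cCodes l) σ :=
  rep_wordC (fun a ha => ⟨_, Subgroup.subset_closure (List.mem_map.2 ⟨a, ha, rfl⟩),
    rep_toPerm (inCo3_mem (gens_facts.2.2.1.2.2.2.1 a ha)).1⟩) l

theorem modelC_le : modelC ≤ MG3 := by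
  refine (Subgroup.closure_le _).2 fun σ hσ => ?_
  obtain ⟨e, he, rfl⟩ := List.mem_map.1 hσ
  exact (inCo3_mem (gens_facts.2.2.1.2.2.2.1 e he)).2

/-- The central involution. -/
def tPt : Equiv.Perm (Fin 276) := toPerm 9 276 tCode

/-- Its partner. -/
def uPt : Equiv.Perm (Fin 276) := toPerm 9 276 uCode

/-- The involution exchanging the two. -/
def sPt : Equiv.Perm (Fin 276) := toPerm 9 276 sCode

theorem fwd_tPt : Fwd 9 (tCode.1, tPt) := fwd_toPerm (inCo3_mem gens_facts.2.2.1.1).1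

theorem fwd_uPt : Fwd 9 (uCode.1, uPt) := fwd_toPerm (inCo3_mem gens_facts.2.2.1.2.1).1

theorem fwd_sPt : Fwd 9 (sCode.1, sPt) := fwd_toPerm (inCo3_mem gens_facts.2.2.1.2.2.1).1

theorem sPt_mem : sPt ∈ MG3 := (inCo3_mem gens_facts.2.2.1.2.2.1).2

theorem sPt_sq : sPt * sPt = 1 :=
  fwd_eq (fwd_comp fwd_sPt fwd_sPt) (fwd_id (by norm_num)) gens_facts.2.2.2.2.1

theorem cv_special : cvPerm cvT = tPt ∧ cvPerm cvU = uPt :=
  ⟨(eq_cvPerm (inCo3_mem gens_facts.2.2.1.1).2 fwd_tPt named_lt.2.2.2.1 gens_facts.2.1.2.1).symm,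
    (eq_cvPerm (inCo3_mem gens_facts.2.2.1.2.1).2 fwd_uPt named_lt.2.2.2.2 gens_facts.2.1.2.2).symm⟩

theorem cvPerm_mem {a : ℕ} (ha : a < 4608) : cvPerm a ∈ modelC := by
  refine word_induction (motive := fun a => cvPerm a ∈ modelC) (cvPerm_one ▸ one_mem _) ?_ ha
  intro j x hj hx ih
  rw [← cvPerm_left hj hx]
  refine mul_mem ?_ ih
  obtain ⟨σ, hσ, hr⟩ := rep_cWord (cvGWords.getD j [])
  exact fwd_eq (fwd_packK (fwd_gPerm hj)) (fwd_rep hr) (gens_facts.1 j hj).1.2.symm ▸ hσ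

theorem cvPerm_comm {a : ℕ} (ha : a < 4608) :
    cvPerm a * tPt = tPt * cvPerm a ∧ cvPerm a * uPt = uPt * cvPerm a := by
  rw [← cv_special.1, ← cv_special.2]
  exact central modelCopy ha

theorem tPt_central {σ : Equiv.Perm (Fin 276)} (hσ : σ ∈ modelC) : σ * tPt = tPt * σ := by
  rw [modelC, genGroup] at hσ
  induction hσ using Subgroup.closure_induction with
  | mem x hx =>
    obtain ⟨e, he, rfl⟩ := List.mem_map.1 hx
    have hf := fwd_toPerm (inCo3_mem (gens_facts.2.2.1.2.2.2.1 e he)).1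
    exact comp_eq_of hf fwd_tPt fwd_tPt hf (gens_facts.2.2.2.1 e he).2
  | one => rw [one_mul, mul_one]
  | mul x y _ _ hx hy => rw [mul_assoc, hy, ← mul_assoc, hx, mul_assoc]
  | inv x _ hx => exact ((Commute.inv_left (show Commute x tPt from hx))).eq

theorem sPt_conj {a : ℕ} (ha : a < 4608) : sPt * cvPerm a * sPt = cvPerm (imI cvB a) := by
  have hinv : sPt⁻¹ = sPt := inv_eq_of_mul_eq_one_right sPt_sq
  have hB : ∀ j, j < 3 → sel cvB j < 4608 := by decide +kernel
  have hg : ∀ j, j < 3 → sPt * modelCopy.el (sel cvG j) * sPt⁻¹ = modelCopy.el (sel cvB j) := by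
    intro j hj
    rw [hinv]
    show sPt * cvPerm (sel cvG j) * sPt = cvPerm (sel cvB j)
    rw [cvPerm_gen hj]
    exact eq_cvPerm (mul_mem (mul_mem sPt_mem (gPerm_mem hj)) sPt_mem)
      (fwd_comp (fwd_comp fwd_sPt (fwd_gPerm hj)) fwd_sPt) (hB j hj) (gens_facts.1 j hj).2.2.2
  have := conj_eq modelCopy hB hg ha
  rwa [hinv] at this

/-- A member of the class is a conjugate of the partner. -/
theorem exists_orb : ∀ i, i < 630 → ∃ g ∈ modelC, Fwd 9 (orbCode i, g * uPt * g⁻¹) := by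
  intro i
  induction i using Nat.strong_induction_on with
  | _ i ih =>
    intro hi
    have h := CosetCert.allBelow_spec orb_check hi
    simp only [orbOK, Bool.and_eq_true, Nat.beq_eq] at h
    obtain ⟨-, h⟩ := h
    rcases Nat.eq_zero_or_pos i with rfl | hpos
    · refine ⟨1, one_mem _, ?_⟩
      rw [inv_one, one_mul, mul_one]
      simp only [Nat.beq_refl, cond_true, Nat.beq_eq] at h
      rw [h]
      exact fwd_packK fwd_uPt
    · rw [show Nat.beq i 0 = false from by rw [← Bool.not_eq_true, Nat.beq_eq]; omega, cond_false] at h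
      simp only [Bool.and_eq_true, Nat.blt_eq, Nat.beq_eq] at h
      obtain ⟨⟨hp, hg⟩, hc⟩ := h
      obtain ⟨g, hg', hf⟩ := ih _ hp (hp.trans hi)
      set e := cCodes.getD (orbTree.getD i (0, 0)).2 (one 9 276) with he
      have hmem : e ∈ cCodes := by
        rw [he, List.getD_eq_getElem _ _ (by rw [gens_facts.2.2.1.2.2.2.2]; exact hg)]
        exact List.getElem_mem _
      have hv := fwd_toPerm (inCo3_mem (gens_facts.2.2.1.2.2.2.1 e hmem)).1
      have hsq : toPerm 9 276 e * toPerm 9 276 e = 1 :=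
        fwd_eq (fwd_comp hv hv) (fwd_id (by norm_num)) (gens_facts.2.2.2.1 e hmem).1
      refine ⟨toPerm 9 276 e * g, mul_mem (Subgroup.subset_closure (List.mem_map.2 ⟨e, hmem, rfl⟩)) hg', ?_⟩
      rw [← hc, mul_inv_rev, inv_eq_of_mul_eq_one_right hsq,
        show toPerm 9 276 e * g * uPt * (g⁻¹ * toPerm 9 276 e) = toPerm 9 276 e * (g * uPt * g⁻¹) * toPerm 9 276 e
          from by group]
      exact fwd_comp (fwd_comp hv hf) hv

/-- An element of the model centraliser commuting with the partner is one of the 4608. -/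
theorem exists_cvPerm (hcard : Nat.card modelC = 2903040) {σ : Equiv.Perm (Fin 276)} (hσ : σ ∈ modelC)
    (hc : σ * uPt = uPt * σ) : ∃ a, a < 4608 ∧ cvPerm a = σ := by
  classical
  haveI : Finite modelC := inferInstance
  have huC : uPt ∈ modelC := cv_special.2 ▸ cvPerm_mem named_lt.2.2.2.2
  let K : Subgroup modelC := Subgroup.centralizer {(⟨uPt, huC⟩ : modelC)}
  have hK : ∀ g : modelC, g ∈ K ↔ (g : Equiv.Perm (Fin 276)) * uPt = uPt * g := fun g => by
    rw [Subgroup.mem_centralizer_singleton_iff, Subtype.ext_iff]; rfl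
  let emb : Fin 4608 → K := fun a => ⟨⟨cvPerm a, cvPerm_mem a.2⟩, (hK _).2 (cvPerm_comm a.2).2⟩
  have hinj : Function.Injective emb := fun a b e =>
    Fin.ext (cvPerm_inj a.2 b.2 (congrArg (fun x : K => ((x : modelC) : Equiv.Perm (Fin 276))) e))
  let ev : modelC ⧸ K → Equiv.Perm (Fin 276) := Quotient.lift (fun g : modelC => (g : Equiv.Perm (Fin 276)) * uPt *
      (g : Equiv.Perm (Fin 276))⁻¹) fun g g' h => by
    have h1 := (hK _).1 (QuotientGroup.leftRel_apply.1 h)
    rw [Subgroup.coe_mul, Subgroup.coe_inv] at h1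
    calc (g : Equiv.Perm (Fin 276)) * uPt * (g : Equiv.Perm (Fin 276))⁻¹
        = (g : Equiv.Perm (Fin 276)) * (uPt * ((g : Equiv.Perm (Fin 276))⁻¹ * g')) * (g' : Equiv.Perm (Fin 276))⁻¹ := by
          group
      _ = _ := by rw [← h1]; group
  choose f hf hff using fun i : Fin 630 => exists_orb i i.2
  let pick : Fin 630 → modelC ⧸ K := fun i => QuotientGroup.mk ⟨f i, hf i⟩
  have hpick : Function.Injective pick := by
    intro i j e
    have e' : f i * uPt * (f i)⁻¹ = f j * uPt * (f j)⁻¹ := congrArg ev e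
    have hn := distinctKeys_spec _ orb_distinct.1
    have hi' := hff i
    rw [e'] at hi'
    have hcode := packK_eq_of_fwd hi' (hff j)
    have pk : ∀ k : Fin 630, packK (orbCode k) = orbCode k := fun k => by
      have := CosetCert.allBelow_spec orb_check k.2
      simp only [orbOK, Bool.and_eq_true, Nat.beq_eq] at this
      exact this.1
    rw [pk, pk, orbCode, orbCode, List.getD_eq_getElem _ _ (by rw [orb_distinct.2]; exact i.2),
      List.getD_eq_getElem _ _ (by rw [orb_distinct.2]; exact j.2)] at hcode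
    exact Fin.ext (hn.getElem_inj_iff.1 hcode)
  have h630 : 630 ≤ K.index := by
    rw [Subgroup.index]
    simpa using Nat.card_le_card_of_injective pick hpick
  have hmul := K.card_mul_index
  rw [hcard] at hmul
  have hle : Nat.card K ≤ 4608 := by
    have := Nat.mul_le_mul_left (Nat.card K) h630
    omega
  have hbij : Function.Bijective emb := by
    refine (Nat.bijective_iff_injective_and_card emb).2 ⟨hinj, ?_⟩
    refine le_antisymm (Nat.card_le_card_of_injective emb hinj) ?_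
    rw [Nat.card_fin]; exact hle
  obtain ⟨a, ha⟩ := hbij.2 ⟨⟨σ, hσ⟩, (hK _).2 hc⟩
  exact ⟨a, a.2, congrArg (fun x : K => ((x : modelC) : Equiv.Perm (Fin 276))) ha⟩

theorem span_spec : ∀ (bs : List ℕ), (∀ b ∈ bs, b < 4608) → ∀ e ∈ spanI bs,
    e < 4608 ∧ cvPerm e ∈ Subgroup.closure {σ | ∃ b ∈ bs, cvPerm b = σ} := by
  intro bs
  induction bs with
  | nil =>
    intro _ e he
    rw [show spanI [] = [0] from rfl, List.mem_singleton] at he
    subst he
    exact ⟨by norm_num, cvPerm_one ▸ one_mem _⟩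
  | cons b bs ih =>
    intro hb e he
    have ih' := ih fun x hx => hb x (List.mem_cons_of_mem _ hx)
    have hmono : Subgroup.closure {σ | ∃ x ∈ bs, cvPerm x = σ} ≤
        Subgroup.closure {σ | ∃ x ∈ b :: bs, cvPerm x = σ} :=
      Subgroup.closure_mono fun σ ⟨x, hx, e⟩ => ⟨x, List.mem_cons_of_mem _ hx, e⟩
    rcases List.mem_append.1 (show e ∈ spanI bs ++ (spanI bs).map (mI b) from he) with h | h
    · exact ⟨(ih' e h).1, hmono (ih' e h).2⟩
    · obtain ⟨x, hx, rfl⟩ := List.mem_map.1 h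
      have hb' := hb b (List.mem_cons_self ..)
      refine ⟨mI_lt hb' (ih' x hx).1, ?_⟩
      rw [← cvPerm_mul hb' (ih' x hx).1]
      exact mul_mem (Subgroup.subset_closure ⟨b, List.mem_cons_self .., rfl⟩) (hmono (ih' x hx).2)

/-- One of the two elementary groups. -/
structure Elem (L B : List ℕ) (C : List Elt) : Prop where
  lt : ∀ e ∈ L, e < 4608
  zero : 0 ∈ L
  t_mem : cvT ∈ L
  u_mem : cvU ∈ L
  perm_mem : ∀ e ∈ L, cvPerm e ∈ genGroup 9 276 C
  exists_of_mem : ∀ σ ∈ genGroup 9 276 C, ∃ e ∈ L, cvPerm e = σ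
  self_centralising : ∀ a, a < 4608 → (∀ e ∈ L, cvPerm a * cvPerm e = cvPerm e * cvPerm a) → a ∈ L

theorem elem_of_check {L B : List ℕ} {C : List Elt} (h : elemOK L B C = true) : Elem L B C := by
  simp only [elemOK, Bool.and_eq_true, List.all_eq_true, List.any_eq_true, Nat.blt_eq, Nat.beq_eq] at h
  obtain ⟨⟨⟨⟨⟨⟨⟨hzip, hlen⟩, hB⟩, hL⟩, h0⟩, hT⟩, hU⟩, hcen⟩ := h
  have mem : ∀ {l : List ℕ} {x : ℕ}, (∃ y ∈ l, x = y) → x ∈ l := fun ⟨y, hy, e⟩ => e ▸ hy
  have hpair : ∀ q ∈ B.zip C, cvPerm q.1 = toPerm 9 276 q.2 := by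
    intro q hq
    obtain ⟨⟨hv, hr⟩, hin⟩ := hzip q hq
    exact (eq_cvPerm (inCo3_mem hin).2 (fwd_toPerm hv) (hB q.1 (List.of_mem_zip hq).1).1 hr).symm
  have hbc : ∀ b ∈ B, ∃ c ∈ C, cvPerm b = toPerm 9 276 c := by
    intro b hb
    obtain ⟨i, hi, rfl⟩ := List.getElem_of_mem hb
    exact ⟨C[i]'(hlen ▸ hi), List.getElem_mem _,
      hpair (B[i], C[i]'(hlen ▸ hi)) (List.mem_iff_getElem.2 ⟨i, by simp [← hlen, hi], by simp⟩)⟩
  have hcb : ∀ c ∈ C, ∃ b ∈ B, cvPerm b = toPerm 9 276 c := by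
    intro c hc
    obtain ⟨i, hi, rfl⟩ := List.getElem_of_mem hc
    exact ⟨B[i]'(hlen ▸ hi), List.getElem_mem _,
      hpair (B[i]'(hlen ▸ hi), C[i]) (List.mem_iff_getElem.2 ⟨i, by simp [hlen, hi], by simp⟩)⟩
  have hsub : ∀ b ∈ B, b ∈ L := fun b hb => by
    have h1 := (hB b hb).2 0 (mem h0)
    refine mem ?_
    rwa [show mI b 0 = b from (word_spec (hB b hb).1).1] at h1
  refine ⟨fun e he => (hL e he).1, mem h0, mem hT, mem hU, fun e he => ?_, fun σ hσ => ?_, fun a ha hca => ?_⟩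
  · refine Subgroup.closure_mono ?_ (span_spec B (fun b hb => (hB b hb).1) e (mem (hL e he).2)).2
    rintro _ ⟨b, hb, rfl⟩
    obtain ⟨c, hc, e⟩ := hbc b hb
    exact List.mem_map.2 ⟨c, hc, e.symm⟩
  · rw [genGroup, ← Subgroup.mem_toSubmonoid, Subgroup.closure_toSubmonoid_of_finite] at hσ
    induction hσ using Submonoid.closure_induction_left with
    | one => exact ⟨0, mem h0, cvPerm_one⟩
    | mul_left x hx y _ ih =>
      obtain ⟨e, he, rfl⟩ := ih
      obtain ⟨c, hc, rfl⟩ := List.mem_map.1 hx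
      obtain ⟨b, hb, hbe⟩ := hcb c hc
      exact ⟨mI b e, mem ((hB b hb).2 e he), by rw [← cvPerm_mul (hB b hb).1 (hL e he).1, hbe]⟩
  · have h := CosetCert.allBelow_spec hcen ha
    simp only [Bool.or_eq_true, Bool.not_eq_true', List.any_eq_true, Nat.beq_eq] at h
    refine mem (h.resolve_left fun h' => ?_)
    rw [← Bool.not_eq_true, List.all_eq_true] at h'
    refine h' fun e he => ?_
    have hlt := (hB e he).1
    rw [Nat.beq_eq]
    refine cvPerm_inj (mI_lt ha hlt) (mI_lt hlt ha) ?_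
    rw [← cvPerm_mul ha hlt, ← cvPerm_mul hlt ha]
    exact hca e (hsub e he)

theorem elemE : Elem cvE cvEBasis eCodes := elem_of_check elemE_check

theorem elemF : Elem cvF cvFBasis fCodes := elem_of_check elemF_check

end

end Cfsg.Agent.CoThreeSp6
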