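import Cfsg.Agent.Lib.CoThreeSp6.CoverData
import Cfsg.Agent.Lib.Compute.SplitCert

/-!
Schreier conditions of the top level of the joint chain, part 3.
-/

set_option autoImplicit false
set_option maxRecDepth 100000
set_option Elab.async false

namespace Cfsg.Agent.CoThreeSp6

open Cfsg.Agent.PermCert

theorem sch0_12 : schOK 9 339 (jointLevels.drop 1) jointLevel0.2.2 ((jointLevel0.2.1.drop 12).take 1) = true := by
  decide +kernel

theorem sch0_13 : schOK 9 339 (jointLevels.drop 1) jointLevel0.2.2 ((jointLevel0.2.1.drop 13).take 1) = true := by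
  decide +kernel

theorem sch0_14 : schOK 9 339 (jointLevels.drop 1) jointLevel0.2.2 ((jointLevel0.2.1.drop 14).take 1) = true := by
  decide +kernel

theorem sch0_15 : schOK 9 339 (jointLevels.drop 1) jointLevel0.2.2 ((jointLevel0.2.1.drop 15).take 1) = true := by
  decide +kernel

end Cfsg.Agent.CoThreeSp6
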