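import Cfsg.Agent.Lib.CoThreeSp6.GenData

/-!
Words in lists of coded permutations, evaluated point by point.
-/

set_option autoImplicit false

namespace Cfsg.Agent.CoThreeSp6

open Cfsg.Agent.PermCert

/-- The image of a point under a word, the last letter first. -/
def evW (w n : ℕ) (cs : List Elt) (l : List ℕ) (i : ℕ) : ℕ :=
  l.foldr (fun k x => get w (cs.getD k (one w n)).1 x) i

/-- The product of a word. -/
noncomputable def pG (w n : ℕ) (cs : List Elt) (l : List ℕ) : Equiv.Perm (Fin n) :=
  (l.map fun k => toPerm w n (cs.getD k (one w n))).prod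

theorem pG_nil (w n : ℕ) (cs : List Elt) : pG w n cs [] = 1 := rfl

theorem pG_cons (w n : ℕ) (cs : List Elt) (k : ℕ) (l : List ℕ) :
    pG w n cs (k :: l) = toPerm w n (cs.getD k (one w n)) * pG w n cs l := by
  rw [pG, List.map_cons, List.prod_cons, pG]

theorem pG_append (w n : ℕ) (cs : List Elt) (l m : List ℕ) :
    pG w n cs (l ++ m) = pG w n cs l * pG w n cs m := by
  rw [pG, List.map_append, List.prod_append, pG, pG]

/-- All listed codes are permutations, and so is the identity code. -/
def okCodes (w n : ℕ) (cs : List Elt) : Bool :=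
  validElt w n (one w n) && Nat.ble n (2 ^ w) && cs.all (validElt w n)

theorem valid_getD {w n : ℕ} {cs : List Elt} (h : okCodes w n cs = true) (k : ℕ) :
    validElt w n (cs.getD k (one w n)) = true := by
  simp only [okCodes, Bool.and_eq_true, List.all_eq_true] at h
  rcases Nat.lt_or_ge k cs.length with hk | hk
  · rw [List.getD_eq_getElem _ _ hk]; exact h.2 _ (List.getElem_mem hk)
  · rw [List.getD_eq_default _ _ hk]; exact h.1.1

theorem pG_apply {w n : ℕ} {cs : List Elt} (h : okCodes w n cs = true) :
    ∀ (l : List ℕ) (i : Fin n), ((pG w n cs l i : Fin n) : ℕ) = evW w n cs l i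
  | [], i => rfl
  | k :: l, i => by
    rw [pG_cons, Equiv.Perm.mul_apply]
    show _ = get w (cs.getD k (one w n)).1 (evW w n cs l i)
    rw [← pG_apply h l i, (rep_toPerm (valid_getD h k) (pG w n cs l i)).1]

theorem toPerm_one {w n : ℕ} {cs : List Elt} (h : okCodes w n cs = true) : toPerm w n (one w n) = 1 := by
  simp only [okCodes, Bool.and_eq_true, Nat.ble_eq] at h
  exact rep_unique (rep_toPerm h.1.1) (rep_one h.1.2)

theorem pG_mem {w n : ℕ} {cs : List Elt} (h : okCodes w n cs = true) {K : Subgroup (Equiv.Perm (Fin n))}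
    (hK : ∀ e ∈ cs, toPerm w n e ∈ K) (l : List ℕ) : pG w n cs l ∈ K := by
  refine Subgroup.list_prod_mem _ fun x hx => ?_
  obtain ⟨k, -, rfl⟩ := List.mem_map.1 hx
  rcases Nat.lt_or_ge k cs.length with hk | hk
  · rw [List.getD_eq_getElem _ _ hk]; exact hK _ (List.getElem_mem hk)
  · rw [List.getD_eq_default _ _ hk, toPerm_one h]; exact one_mem _

theorem pG_mem_genGroup {w n : ℕ} {cs : List Elt} (h : okCodes w n cs = true) (l : List ℕ) :
    pG w n cs l ∈ genGroup w n cs :=
  pG_mem h (fun e he => Subgroup.subset_closure (List.mem_map.2 ⟨e, he, rfl⟩)) l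

/-- A code agrees with a word at every point. -/
def sameW (w n : ℕ) (cs : List Elt) (e : Elt) (l : List ℕ) : Bool :=
  validElt w n e && allBelow (fun i => Nat.beq (get w e.1 i) (evW w n cs l i)) n

theorem eq_of_sameW {w n : ℕ} {cs : List Elt} (h : okCodes w n cs = true) {e : Elt} {l : List ℕ}
    (hs : sameW w n cs e l = true) : toPerm w n e = pG w n cs l := by
  simp only [sameW, Bool.and_eq_true] at hs
  refine Equiv.ext fun i => Fin.ext ?_
  rw [pG_apply h, ← (rep_toPerm hs.1 i).1]
  exact Nat.beq_eq ▸ allBelow_spec _ _ hs.2 i i.2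

end Cfsg.Agent.CoThreeSp6
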