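import Cfsg.Agent.Lib.CoThreeSp6.CoverData
import Cfsg.Agent.Lib.CoThreeSp6.FusionData
import Cfsg.Agent.Lib.CoThreeSp6.Word
import Cfsg.Agent.Lib.SchurMult.Sp62Group
import Cfsg.Agent.Lib.CoThreeSp6.JointSch0
import Cfsg.Agent.Lib.CoThreeSp6.JointSch1
import Cfsg.Agent.Lib.CoThreeSp6.JointSch2
import Cfsg.Agent.Lib.CoThreeSp6.JointSch3

/-!
Checks on the joint action of the centraliser on 276 and 63 points.
-/

set_option autoImplicit false
set_option maxRecDepth 100000
set_option Elab.async false

namespace Cfsg.Agent.CoThreeSp6

open Cfsg.Agent.PermCert Cfsg.Agent.SchurMult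

theorem tail_levels : checkLevels 9 339 (jointLevels.drop 1) = true := by decide +kernel

theorem head0 : headOK 9 339 jointLevel0 (jointLevels.drop 1) = true := by decide +kernel

theorem schOK_drop {w n : ℕ} {L : List CLevel} {T : List (ℕ × Elt × ℕ × ℕ)} {S : List Elt}
    (h : ∀ k < S.length, schOK w n L T ((S.drop k).take 1) = true) : schOK w n L T S = true := by
  rw [schOK, List.all_eq_true]
  intro s hs
  obtain ⟨i, hi, rfl⟩ := List.getElem_of_mem hs
  exact List.all_eq_true.1 (h i hi) _ (by rw [List.drop_eq_getElem_cons hi]; exact List.mem_cons_self)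

theorem len0 : jointLevel0.2.1.length = 16 := by decide +kernel

theorem sch0 : schOK 9 339 (jointLevels.drop 1) jointLevel0.2.2 jointLevel0.2.1 = true := by
  refine schOK_drop fun k hk => ?_
  rw [len0] at hk
  match k, hk with
  | 0, _ => exact sch0_0
  | 1, _ => exact sch0_1
  | 2, _ => exact sch0_2
  | 3, _ => exact sch0_3
  | 4, _ => exact sch0_4
  | 5, _ => exact sch0_5
  | 6, _ => exact sch0_6
  | 7, _ => exact sch0_7
  | 8, _ => exact sch0_8
  | 9, _ => exact sch0_9
  | 10, _ => exact sch0_10
  | 11, _ => exact sch0_11
  | 12, _ => exact sch0_12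
  | 13, _ => exact sch0_13
  | 14, _ => exact sch0_14
  | 15, _ => exact sch0_15
  | _ + 16, h => omega

theorem joint_head : (Nat.ble 339 (2 ^ 9) && (jointGens.all fun g => validElt 9 339 g) &&
    checkDerived 9 339 jointGens jointDerived &&
      (topCodes jointLevels).all fun s => memCode s (jointGens ++ jointDerived.map fun d => d.1)) = true := by
  decide +kernel

theorem joint_sift : (jointGens.all fun g => sift 9 339 jointLevels g.1) = true := by decide +kernel

theorem joint_cert : checkCert 9 339 jointGens jointDerived jointLevels = true :=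
  checkCert_of joint_head (checkLevels_cons tail_levels head0 sch0) joint_sift

theorem joint_order : certOrder jointLevels = 2903040 := by decide +kernel

theorem joint_base : (jointLevels.all fun l => jointBase.any (Nat.beq l.1)) = true ∧
    (jointBase.all fun b => Nat.blt b 276) = true := by decide +kernel

/-- A joint code splits into the two codes. -/
def splitOK (g c p : Elt) : Bool :=
  allBelow (fun i => Nat.beq (get 9 g.1 i) (get 9 c.1 i)) 276 &&
    allBelow (fun i => Nat.beq (get 9 g.1 (276 + i)) (276 + get 6 p.1 i)) 63

theorem joint_split : jointGens.length = 7 ∧ cCodes.length = 7 ∧ pCodes.length = 7 ∧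
    ((jointGens.zip (cCodes.zip pCodes)).all fun q => splitOK q.1 q.2.1 q.2.2) = true := by decide +kernel

theorem c_ok : okCodes 9 276 cCodes = true ∧ validElt 9 276 tCode = true ∧ validElt 9 276 uCode = true := by
  decide +kernel

theorem p_ok : okCodes 6 63 pCodes = true ∧ (jointGens.all fun g => validElt 9 339 g) = true ∧
    (pCodes.all fun p => sift 6 63 sp62Levels p.1) = true := by decide +kernel

theorem sp_words : sp62Gens.length = spWords.length ∧
    ((sp62Gens.zip spWords).all fun q => sameW 6 63 pCodes q.1 q.2) = true := by decide +kernel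

theorem t_words : sameW 9 276 cCodes tCode tWord = true ∧ sameW 6 63 pCodes (one 6 63) tWord = true ∧
    (jointBase.any fun b => !Nat.beq (get 9 tCode.1 b) b) = true := by decide +kernel

theorem t_comm : (cCodes.all fun c => jointBase.all fun b =>
    Nat.beq (get 9 c.1 (get 9 tCode.1 b)) (get 9 tCode.1 (get 9 c.1 b))) = true ∧
    (jointBase.all fun b => Nat.beq (evW 9 276 cCodes (commA ++ commB) b)
      (evW 9 276 cCodes (tWord ++ commB ++ commA) b)) = true := by decide +kernel

end Cfsg.Agent.CoThreeSp6
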