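import Cfsg.Agent.Lib.CoThreeSp6.CoverData
import Cfsg.Agent.Lib.CoThreeSp6.FusionData
import Cfsg.Agent.Lib.CoThreeSp6.Word

/-!
Checks on a Sylow 2-subgroup of the coded centraliser: its series, its involutions and their conjugators.
-/

set_option autoImplicit false
set_option maxRecDepth 100000
set_option Elab.async false

namespace Cfsg.Agent.CoThreeSp6

open Cfsg.Agent.PermCert

/-- Evaluation in the generators of the centraliser. -/
abbrev evC (l : List ℕ) (p : ℕ) : ℕ := evW 9 276 cCodes l p

/-- Evaluation in the series. -/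
abbrev evS (l : List ℕ) (p : ℕ) : ℕ := evW 9 276 pcCodes l p

/-- The subsets of the last indices, as increasing lists. -/
def subWords : ℕ → List (List ℕ)
  | 0 => [[]]
  | d + 1 => subWords d ++ (subWords d).map (List.cons (9 - d))

/-- The index of a word. -/
def idxOf' (l : List ℕ) : ℕ := (l.map fun a => 2 ^ a).sum

/-- The images of the base under a word. -/
def keyOf (l : List ℕ) : ℕ := jointBase.foldr (fun b acc => evS l b + 512 * acc) 0

/-- All points of the base satisfy the test. -/
abbrev onBase (f : ℕ → Bool) : Bool := jointBase.all f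

/-- A word is trivial, central, not an involution or conjugate to one of the two representatives. -/
def chkClass (l : List ℕ) : Bool :=
  (jointBase.any fun p => !Nat.beq (evS (l ++ l) p) p) || onBase (fun p => Nat.beq (evS l p) p) ||
    onBase (fun p => Nat.beq (evS l p) (get 9 tCode.1 p)) ||
    classTab.any fun e => Nat.beq e.1 (idxOf' l) &&
      ((Nat.beq e.2.1 0 && onBase (fun p => Nat.beq (evS l (evC e.2.2 p)) (evC e.2.2 (get 9 uCode.1 p)))) ||
        onBase (fun p => Nat.beq (evS l (evC e.2.2 p)) (evC e.2.2 (get 9 wCode.1 p))))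

/-- The square of a word is trivial, central, not an involution or conjugate to the first representative. -/
def chkSq (l : List ℕ) : Bool :=
  onBase (fun p => Nat.beq (evS (l ++ l) p) p) || onBase (fun p => Nat.beq (evS (l ++ l) p) (get 9 tCode.1 p)) ||
    (jointBase.any fun p => !Nat.beq (evS (l ++ l ++ (l ++ l)) p) p) ||
    sqTab.any fun e => Nat.beq e.1 (idxOf' l) &&
      onBase (fun p => Nat.beq (evS (l ++ l) (evC e.2 p)) (evC e.2 (get 9 uCode.1 p)))

theorem fus_valid : okCodes 9 276 pcCodes = true ∧ validElt 9 276 wCode = true ∧ pcCodes.length = 10 ∧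
    pcW.length = 10 := by decide +kernel

theorem fus_words : ((pcCodes.zip pcW).all fun q => sameW 9 276 cCodes q.1 q.2) = true ∧
    sameW 9 276 cCodes wCode wWord = true ∧ sameW 9 276 cCodes uCode uWord = true := by decide +kernel

theorem sq_rel : ((List.range 10).all fun i => (sqRel.getD i []).all (fun a => Nat.blt i a && Nat.blt a 10) &&
    onBase (fun p => Nat.beq (evS [i, i] p) (evS (sqRel.getD i []) p))) = true := by decide +kernel

theorem cj_rel : ((List.range 10).all fun i => (List.range 10).all fun j => !Nat.blt i j ||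
    cjRel.any fun r => Nat.beq r.1 i && Nat.beq r.2.1 j && r.2.2.all (fun a => Nat.blt i a && Nat.blt a 10) &&
      onBase (fun p => Nat.beq (evS [i, j] p) (evS (r.2.2 ++ [i]) p))) = true := by decide +kernel

theorem keys_distinct : distinctKeys ((subWords 10).map keyOf) = true ∧ (subWords 10).length = 1024 := by
  decide +kernel

theorem class_ok : ((subWords 10).all chkClass) = true := by decide +kernel

theorem sq_ok : ((subWords 10).all chkSq) = true := by decide +kernel

theorem rep_checks :
    (jointBase.any fun p => !Nat.beq (get 9 uCode.1 p) p) = true ∧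
    (jointBase.any fun p => !Nat.beq (get 9 wCode.1 p) p) = true ∧
    (jointBase.any fun p => !Nat.beq (get 9 uCode.1 p) (get 9 tCode.1 p)) = true ∧
    (jointBase.any fun p => !Nat.beq (get 9 wCode.1 p) (get 9 tCode.1 p)) = true ∧
    onBase (fun p => Nat.beq (get 9 uCode.1 (get 9 uCode.1 p)) p) = true ∧
    onBase (fun p => Nat.beq (get 9 wCode.1 (get 9 wCode.1 p)) p) = true ∧
    onBase (fun p => Nat.beq (get 9 tCode.1 (get 9 tCode.1 p)) p) = true ∧
    onBase (fun p => Nat.beq (evC (zUWord ++ zUWord) p) (get 9 tCode.1 p)) = true ∧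
    onBase (fun p => Nat.beq (evC zUWord (get 9 uCode.1 p)) (get 9 uCode.1 (evC zUWord p))) = true ∧
    onBase (fun p => Nat.beq (evC (zWWord ++ zWWord) p) (get 9 tCode.1 p)) = true ∧
    onBase (fun p => Nat.beq (evC zWWord (get 9 wCode.1 p)) (get 9 wCode.1 (evC zWWord p))) = true ∧
    onBase (fun p => Nat.beq (evC (bWord ++ bWord) p) p) = true ∧
    onBase (fun p => Nat.beq (evC bWord (get 9 uCode.1 p)) (get 9 tCode.1 (get 9 uCode.1 (evC bWord p)))) = true := by
  decide +kernel

/-- The number of fixed points of a code. -/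
def fixPts (e : Elt) : ℕ := (Finset.univ.filter fun i : Fin 276 => get 9 e.1 i = (i : ℕ)).card

theorem fix_ne : fixPts uCode ≠ fixPts wCode := by decide +kernel

end Cfsg.Agent.CoThreeSp6
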