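import Cfsg.Agent.Lib.CoThreeSp6.Cover
import Cfsg.Agent.Lib.CoThreeSp6.FusionCheck
import Mathlib.GroupTheory.Sylow

/-!
The classes of involutions of the coded centraliser, and which of them are squares.
-/

set_option autoImplicit false
set_option maxRecDepth 20000

namespace Cfsg.Agent.CoThreeSp6

open Cfsg Cfsg.Agent.PermCert

attribute [local irreducible] cCodes pCodes jointGens jointDerived jointLevels jointBase tCode uCode wCode pcCodes
  pcW classTab sqTab cjRel sqRel uWord wWord tWord zUWord zWWord bWord subWords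

/-- The partner of the central involution. -/
noncomputable def uPerm : Equiv.Perm (Fin 276) := toPerm 9 276 uCode

/-- The representative of the other class of involutions. -/
noncomputable def wPerm : Equiv.Perm (Fin 276) := toPerm 9 276 wCode

theorem uPerm_mem : uPerm ∈ modelC := by
  rw [uPerm, eq_of_sameW c_ok.1 fus_words.2.2]; exact pG_mem_modelC _

theorem wPerm_mem : wPerm ∈ modelC := by
  rw [wPerm, eq_of_sameW c_ok.1 fus_words.2.1]; exact pG_mem_modelC _

theorem pc_mem : ∀ e ∈ pcCodes, toPerm 9 276 e ∈ modelC := by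
  intro e he
  obtain ⟨k, hk, rfl⟩ := List.getElem_of_mem he
  have hk' : k < pcW.length := by rw [fus_valid.2.2.2, ← fus_valid.2.2.1]; exact hk
  have := List.all_eq_true.1 fus_words.1 (pcCodes[k], pcW[k])
    (List.mem_iff_getElem.2 ⟨k, by simp; omega, by simp⟩)
  rw [eq_of_sameW c_ok.1 this]
  exact pG_mem_modelC _

/-- A product in the series. -/
noncomputable def pS (l : List ℕ) : Equiv.Perm (Fin 276) := pG 9 276 pcCodes l

theorem pS_mem (l : List ℕ) : pS l ∈ modelC := pG_mem fus_valid.1 pc_mem l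

theorem pS_apply (l : List ℕ) (i : Fin 276) : ((pS l i : Fin 276) : ℕ) = evS l i := pG_apply fus_valid.1 l i

theorem pC_apply (l : List ℕ) (i : Fin 276) : ((pG 9 276 cCodes l i : Fin 276) : ℕ) = evC l i := pG_apply c_ok.1 l i

theorem t_apply (i : Fin 276) : ((tPerm i : Fin 276) : ℕ) = get 9 tCode.1 i := (rep_toPerm c_ok.2.1 i).1.symm

theorem u_apply (i : Fin 276) : ((uPerm i : Fin 276) : ℕ) = get 9 uCode.1 i := (rep_toPerm c_ok.2.2 i).1.symm

theorem w_apply (i : Fin 276) : ((wPerm i : Fin 276) : ℕ) = get 9 wCode.1 i := (rep_toPerm fus_valid.2.1 i).1.symm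

/-- Two elements of the model that a check on the base identifies. -/
theorem eq_of_onBase {x y : Equiv.Perm (Fin 276)} (hx : x ∈ modelC) (hy : y ∈ modelC) {f g : ℕ → ℕ}
    (hf : ∀ i : Fin 276, ((x i : Fin 276) : ℕ) = f i) (hg : ∀ i : Fin 276, ((y i : Fin 276) : ℕ) = g i)
    (h : onBase (fun p => Nat.beq (f p) (g p)) = true) : x = y :=
  eq_of_jointBase hx hy fun i hi => Fin.ext (by
    rw [hf, hg]
    exact Nat.beq_eq ▸ List.all_eq_true.1 h i hi)

theorem ne_of_anyBase {x y : Equiv.Perm (Fin 276)} {f g : ℕ → ℕ} (hf : ∀ i : Fin 276, ((x i : Fin 276) : ℕ) = f i)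
    (hg : ∀ i : Fin 276, ((y i : Fin 276) : ℕ) = g i)
    (h : (jointBase.any fun p => !Nat.beq (f p) (g p)) = true) : x ≠ y := by
  rintro rfl
  obtain ⟨b, hb, e⟩ := List.any_eq_true.1 h
  have hlt : b < 276 := by
    have := List.all_eq_true.1 joint_base.2 b hb
    rwa [Nat.blt_eq] at this
  have h1 := hf ⟨b, hlt⟩
  rw [hg ⟨b, hlt⟩] at h1
  simp [h1] at e

theorem one_apply' (i : Fin 276) : (((1 : Equiv.Perm (Fin 276)) i : Fin 276) : ℕ) = id (i : ℕ) := rfl

theorem uPerm_ne_one : uPerm ≠ 1 := ne_of_anyBase (g := id) u_apply one_apply' rep_checks.1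

theorem wPerm_ne_one : wPerm ≠ 1 := ne_of_anyBase (g := id) w_apply one_apply' rep_checks.2.1

theorem uPerm_ne_t : uPerm ≠ tPerm := ne_of_anyBase u_apply t_apply rep_checks.2.2.1

theorem wPerm_ne_t : wPerm ≠ tPerm := ne_of_anyBase w_apply t_apply rep_checks.2.2.2.1

theorem uPerm_sq : uPerm * uPerm = 1 :=
  eq_of_onBase (f := fun p => get 9 uCode.1 (get 9 uCode.1 p)) (g := id) (mul_mem uPerm_mem uPerm_mem) (one_mem _)
    (fun i => by rw [Equiv.Perm.mul_apply, u_apply, u_apply]) one_apply' rep_checks.2.2.2.2.1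

theorem wPerm_sq : wPerm * wPerm = 1 :=
  eq_of_onBase (f := fun p => get 9 wCode.1 (get 9 wCode.1 p)) (g := id) (mul_mem wPerm_mem wPerm_mem) (one_mem _)
    (fun i => by rw [Equiv.Perm.mul_apply, w_apply, w_apply]) one_apply' rep_checks.2.2.2.2.2.1

theorem tPerm_sq : tPerm * tPerm = 1 :=
  eq_of_onBase (f := fun p => get 9 tCode.1 (get 9 tCode.1 p)) (g := id) (mul_mem tPerm_mem tPerm_mem) (one_mem _)
    (fun i => by rw [Equiv.Perm.mul_apply, t_apply, t_apply]) one_apply' rep_checks.2.2.2.2.2.2.1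

theorem exists_root_u : ∃ z ∈ modelC, z * z = tPerm ∧ z * uPerm = uPerm * z := by
  refine ⟨_, pG_mem_modelC zUWord, ?_, ?_⟩
  · rw [← pG_append]
    exact eq_of_onBase (pG_mem_modelC _) tPerm_mem (pC_apply _) t_apply rep_checks.2.2.2.2.2.2.2.1
  · exact eq_of_onBase (f := fun p => evC zUWord (get 9 uCode.1 p)) (g := fun p => get 9 uCode.1 (evC zUWord p))
      (mul_mem (pG_mem_modelC _) uPerm_mem) (mul_mem uPerm_mem (pG_mem_modelC _))
      (fun i => by rw [Equiv.Perm.mul_apply, pC_apply, u_apply])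
      (fun i => by rw [Equiv.Perm.mul_apply, u_apply, pC_apply]) rep_checks.2.2.2.2.2.2.2.2.1

theorem exists_root_w : ∃ z ∈ modelC, z * z = tPerm ∧ z * wPerm = wPerm * z := by
  refine ⟨_, pG_mem_modelC zWWord, ?_, ?_⟩
  · rw [← pG_append]
    exact eq_of_onBase (pG_mem_modelC _) tPerm_mem (pC_apply _) t_apply rep_checks.2.2.2.2.2.2.2.2.2.1
  · exact eq_of_onBase (f := fun p => evC zWWord (get 9 wCode.1 p)) (g := fun p => get 9 wCode.1 (evC zWWord p))
      (mul_mem (pG_mem_modelC _) wPerm_mem) (mul_mem wPerm_mem (pG_mem_modelC _))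
      (fun i => by rw [Equiv.Perm.mul_apply, pC_apply, w_apply])
      (fun i => by rw [Equiv.Perm.mul_apply, w_apply, pC_apply]) rep_checks.2.2.2.2.2.2.2.2.2.2.1

theorem exists_swap_model : ∃ b ∈ modelC, b * b = 1 ∧ b * uPerm * b⁻¹ = tPerm * uPerm := by
  refine ⟨_, pG_mem_modelC bWord, ?_, ?_⟩
  · rw [← pG_append]
    exact eq_of_onBase (g := id) (pG_mem_modelC _) (one_mem _) (pC_apply _) one_apply'
      rep_checks.2.2.2.2.2.2.2.2.2.2.2.1
  · rw [mul_inv_eq_iff_eq_mul]
    exact eq_of_onBase (f := fun p => evC bWord (get 9 uCode.1 p))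
      (g := fun p => get 9 tCode.1 (get 9 uCode.1 (evC bWord p)))
      (mul_mem (pG_mem_modelC _) uPerm_mem) (mul_mem (mul_mem tPerm_mem uPerm_mem) (pG_mem_modelC _))
      (fun i => by rw [Equiv.Perm.mul_apply, pC_apply, u_apply])
      (fun i => by rw [Equiv.Perm.mul_apply, Equiv.Perm.mul_apply, t_apply, u_apply, pC_apply])
      rep_checks.2.2.2.2.2.2.2.2.2.2.2.2

/-- The tails of the series. -/
noncomputable def tail (i : ℕ) : Subgroup (Equiv.Perm (Fin 276)) :=
  Subgroup.closure {x | ∃ a, i ≤ a ∧ a < 10 ∧ pS [a] = x}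

theorem series_mem {l : List ℕ} {i : ℕ} (h : (l.all fun a => Nat.blt i a && Nat.blt a 10) = true) :
    pS l ∈ tail (i + 1) := by
  induction l with
  | nil => exact one_mem _
  | cons a l ih =>
    rw [List.all_cons, Bool.and_eq_true, Bool.and_eq_true, Nat.blt_eq, Nat.blt_eq] at h
    rw [pS, show a :: l = [a] ++ l from rfl, pG_append]
    exact mul_mem (Subgroup.subset_closure ⟨a, h.1.1, h.1.2, rfl⟩) (ih h.2)

theorem sq_mem {i : ℕ} (hi : i < 10) : pS [i] * pS [i] ∈ tail (i + 1) := by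
  have h := List.all_eq_true.1 sq_rel i (List.mem_range.2 hi)
  rw [Bool.and_eq_true] at h
  rw [pS, ← pG_append]
  show pS [i, i] ∈ _
  rw [eq_of_onBase (pS_mem _) (pS_mem _) (pS_apply _) (pS_apply _) h.2]
  exact series_mem h.1

theorem cj_mem {i j : ℕ} (hij : i < j) (hj : j < 10) : pS [i] * pS [j] * (pS [i])⁻¹ ∈ tail (i + 1) := by
  have h := List.all_eq_true.1 (List.all_eq_true.1 cj_rel i (List.mem_range.2 (hij.trans hj))) j (List.mem_range.2 hj)
  rw [Bool.or_eq_true, Bool.not_eq_true', List.any_eq_true] at h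
  rcases h with h | ⟨r, -, hr⟩
  · rw [show Nat.blt i j = true from Nat.ble_eq_true_of_le hij] at h
    exact Bool.noConfusion h
  simp only [Bool.and_eq_true, Nat.beq_eq] at hr
  have e : pS [i, j] = pS (r.2.2 ++ [i]) := eq_of_onBase (pS_mem _) (pS_mem _) (pS_apply _) (pS_apply _) hr.2
  have e1 : pS [i] * pS [j] = pS r.2.2 * pS [i] := by
    simp only [pS, ← pG_append]
    exact e
  rw [e1, mul_inv_cancel_right]
  exact series_mem hr.1.2

section Series

variable {K : Type*} [Group K]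

theorem conj_closure {s : K} {S : Set K} (h2 : s * s ∈ Subgroup.closure S)
    (h : ∀ x ∈ S, s * x * s⁻¹ ∈ Subgroup.closure S) : ∀ x ∈ Subgroup.closure S,
    s * x * s⁻¹ ∈ Subgroup.closure S ∧ s⁻¹ * x * s ∈ Subgroup.closure S := by
  have h1 : ∀ x ∈ Subgroup.closure S, s * x * s⁻¹ ∈ Subgroup.closure S := by
    intro x hx
    induction hx using Subgroup.closure_induction with
    | mem y hy => exact h y hy
    | one => rw [mul_one, mul_inv_cancel]; exact one_mem _
    | mul p q _ _ hp hq => rw [← conj_mul]; exact mul_mem hp hq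
    | inv p _ hp => rw [← conj_inv]; exact inv_mem hp
  refine fun x hx => ⟨h1 x hx, ?_⟩
  have e : s⁻¹ * x * s = (s * s)⁻¹ * (s * x * s⁻¹) * (s * s) := by group
  rw [e]
  exact mul_mem (mul_mem (inv_mem h2) (h1 x hx)) h2

theorem cases_closure {s : K} {S T : Set K} (hT : ∀ x ∈ T, x = s ∨ x ∈ Subgroup.closure S)
    (h2 : s * s ∈ Subgroup.closure S) (h : ∀ x ∈ S, s * x * s⁻¹ ∈ Subgroup.closure S) {x : K}
    (hx : x ∈ Subgroup.closure T) : x ∈ Subgroup.closure S ∨ s⁻¹ * x ∈ Subgroup.closure S := by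
  induction hx using Subgroup.closure_induction with
  | mem y hy =>
    rcases hT y hy with rfl | h
    · exact Or.inr (by rw [inv_mul_cancel]; exact one_mem _)
    · exact Or.inl h
  | one => exact Or.inl (one_mem _)
  | mul a b _ _ ha hb =>
    rcases ha with ha | ha <;> rcases hb with hb | hb
    · exact Or.inl (mul_mem ha hb)
    · refine Or.inr ?_
      have e : s⁻¹ * (a * b) = (s⁻¹ * a * s) * (s⁻¹ * b) := by group
      rw [e]; exact mul_mem (conj_closure h2 h a ha).2 hb
    · exact Or.inr (by rw [← mul_assoc]; exact mul_mem ha hb)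
    · refine Or.inl ?_
      have e : a * b = (s * (s⁻¹ * a) * s⁻¹) * (s * s) * (s⁻¹ * b) := by group
      rw [e]; exact mul_mem (mul_mem (conj_closure h2 h _ ha).1 h2) hb
  | inv a _ ha =>
    rcases ha with ha | ha
    · exact Or.inl (inv_mem ha)
    · refine Or.inr ?_
      have e : s⁻¹ * a⁻¹ = (s * s)⁻¹ * (s * (s⁻¹ * a)⁻¹ * s⁻¹) := by group
      rw [e]; exact mul_mem (inv_mem h2) (conj_closure h2 h _ (inv_mem ha)).1

theorem sq_closure {s : K} {S T : Set K} (hT : ∀ x ∈ T, x = s ∨ x ∈ Subgroup.closure S)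
    (h2 : s * s ∈ Subgroup.closure S) (h : ∀ x ∈ S, s * x * s⁻¹ ∈ Subgroup.closure S) {x : K}
    (hx : x ∈ Subgroup.closure T) : x * x ∈ Subgroup.closure S := by
  rcases cases_closure hT h2 h hx with ha | ha
  · exact mul_mem ha ha
  · have e : x * x = (s * (s⁻¹ * x) * s⁻¹) * (s * s) * (s⁻¹ * x) := by group
    rw [e]; exact mul_mem (mul_mem (conj_closure h2 h _ ha).1 h2) ha

end Series

theorem tail_gen {i : ℕ} : ∀ x ∈ {x | ∃ a, i ≤ a ∧ a < 10 ∧ pS [a] = x}, x = pS [i] ∨ x ∈ tail (i + 1) := by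
  rintro x ⟨a, ha, ha', rfl⟩
  rcases eq_or_lt_of_le ha with rfl | h
  · exact Or.inl rfl
  · exact Or.inr (Subgroup.subset_closure ⟨a, h, ha', rfl⟩)

theorem tail_conj_gen {i : ℕ} :
    ∀ x ∈ {x | ∃ a, i + 1 ≤ a ∧ a < 10 ∧ pS [a] = x}, pS [i] * x * (pS [i])⁻¹ ∈ tail (i + 1) := by
  rintro x ⟨a, ha, ha', rfl⟩
  exact cj_mem ha ha'

theorem tail_cases {i : ℕ} (hi : i < 10) {x : Equiv.Perm (Fin 276)} (hx : x ∈ tail i) :
    x ∈ tail (i + 1) ∨ (pS [i])⁻¹ * x ∈ tail (i + 1) :=
  cases_closure tail_gen (sq_mem hi) tail_conj_gen hx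

theorem tail_sq {i : ℕ} (hi : i < 10) {x : Equiv.Perm (Fin 276)} (hx : x ∈ tail i) : x * x ∈ tail (i + 1) :=
  sq_closure tail_gen (sq_mem hi) tail_conj_gen hx

theorem tail_le : tail 0 ≤ modelC := by
  rw [tail, Subgroup.closure_le]
  rintro _ ⟨a, -, -, rfl⟩
  exact pS_mem _

theorem tail_words : ∀ d, d ≤ 10 → ∀ x ∈ tail (10 - d), ∃ l ∈ subWords d, x = pS l := by
  intro d
  induction d with
  | zero =>
    intro _ x hx
    have : tail (10 - 0) = ⊥ := by
      rw [tail, Subgroup.closure_eq_bot_iff]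
      rintro y ⟨a, ha, ha', -⟩
      omega
    rw [this, Subgroup.mem_bot] at hx
    exact ⟨[], by simp [subWords], hx⟩
  | succ d ih =>
    intro hd x hx
    have hsucc : 10 - (d + 1) + 1 = 10 - d := by omega
    have hi : 10 - (d + 1) < 10 := by omega
    rcases tail_cases hi hx with h | h
    · obtain ⟨l, hl, rfl⟩ := ih (by omega) x (hsucc ▸ h)
      exact ⟨l, by simp [subWords, hl], rfl⟩
    · obtain ⟨l, hl, e⟩ := ih (by omega) _ (hsucc ▸ h)
      refine ⟨(9 - d) :: l, by simp [subWords, hl], ?_⟩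
      rw [inv_mul_eq_iff_eq_mul] at e
      rw [e, show 10 - (d + 1) = 9 - d by omega, pS, pS, ← pG_append]
      rfl

theorem pS_pow_tail : ∀ d, d ≤ 10 → ∀ x ∈ tail (10 - d), x ^ 2 ^ d = 1 := by
  intro d
  induction d with
  | zero =>
    intro _ x hx
    have : tail (10 - 0) = ⊥ := by
      rw [tail, Subgroup.closure_eq_bot_iff]
      rintro y ⟨a, ha, ha', -⟩
      omega
    rw [this, Subgroup.mem_bot] at hx
    rw [hx, one_pow]
  | succ d ih =>
    intro hd x hx
    have hsucc : 10 - (d + 1) + 1 = 10 - d := by omega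
    have hi : 10 - (d + 1) < 10 := by omega
    have hx2 : x * x ∈ tail (10 - d) := hsucc ▸ tail_sq hi hx
    rw [pow_succ', pow_mul, pow_two]
    exact ih (by omega) _ hx2

theorem factorization_two : (2903040 : ℕ).factorization 2 = 10 := by
  rw [show (2903040 : ℕ) = 2 ^ 10 * 2835 by norm_num, Nat.factorization_mul (by norm_num) (by norm_num),
    Finsupp.add_apply, Nat.Prime.factorization_pow Nat.prime_two, Finsupp.single_eq_same,
    Nat.factorization_eq_zero_of_not_dvd (by norm_num : ¬ 2 ∣ 2835)]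

theorem tail_pgroup : IsPGroup 2 ((tail 0).subgroupOf modelC) := fun x => ⟨10, Subtype.ext (Subtype.ext (by
  have := pS_pow_tail 10 le_rfl _ (Subgroup.mem_subgroupOf.1 x.2)
  simpa using this))⟩

theorem card_tail : Nat.card ((tail 0).subgroupOf modelC) = 2 ^ 10 := by
  haveI : Fact (Nat.Prime 2) := ⟨Nat.prime_two⟩
  refine le_antisymm ?_ ?_
  · obtain ⟨P, hP⟩ := tail_pgroup.exists_le_sylow
    refine (Subgroup.card_le_of_le hP).trans ?_
    rw [P.card_eq_multiplicity, card_modelC, factorization_two]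
  · obtain ⟨hd, hlen⟩ := keys_distinct
    have hnd : ((subWords 10).map keyOf).Nodup := distinctKeys_spec _ hd
    have hm : ∀ l, pS l ∈ tail 0 := fun l => by
      refine pG_mem fus_valid.1 (fun e he => ?_) l
      obtain ⟨k, hk, rfl⟩ := List.getElem_of_mem he
      refine Subgroup.subset_closure ⟨k, Nat.zero_le _, fus_valid.2.2.1 ▸ hk, ?_⟩
      rw [pS, pG_cons, pG_nil, mul_one, List.getD_eq_getElem _ _ hk]
    let f : Fin (subWords 10).length → (tail 0).subgroupOf modelC := fun k =>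
      ⟨⟨pS (subWords 10)[k], pS_mem _⟩, Subgroup.mem_subgroupOf.2 (hm _)⟩
    have hf : Function.Injective f := fun a b h => Fin.ext (by
      have e : pS (subWords 10)[a] = pS (subWords 10)[b] := congrArg (fun v : (tail 0).subgroupOf modelC => v.1.1) h
      have hkey : keyOf (subWords 10)[a] = keyOf (subWords 10)[b] := by
        unfold keyOf
        refine List.foldr_ext _ _ _ fun p hp acc => ?_
        have hlt : p < 276 := by
          have := List.all_eq_true.1 joint_base.2 p hp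
          rwa [Nat.blt_eq] at this
        have h1 := pS_apply (subWords 10)[a] ⟨p, hlt⟩
        rw [e, pS_apply] at h1
        dsimp only at h1 ⊢
        rw [h1]
      have := (List.Nodup.getElem_inj_iff hnd (i := a) (j := b) (hi := by simp) (hj := by simp)).1
        (by simpa using hkey)
      exact this)
    have := Nat.card_le_card_of_injective f hf
    rw [Nat.card_fin, hlen] at this
    exact this

/-- The involutions and square roots are conjugate into the series. -/
theorem exists_conj_tail {x : Equiv.Perm (Fin 276)} (hx : x ∈ modelC) {k : ℕ} (hk : x ^ 2 ^ k = 1) :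
    ∃ g ∈ modelC, ∃ l ∈ subWords 10, g * x * g⁻¹ = pS l := by
  haveI : Fact (Nat.Prime 2) := ⟨Nat.prime_two⟩
  let S : Sylow 2 modelC := Sylow.ofCard ((tail 0).subgroupOf modelC) (by
    rw [card_tail, card_modelC, factorization_two])
  have hp : IsPGroup 2 (Subgroup.zpowers (⟨x, hx⟩ : modelC)) := by
    obtain ⟨j, -, hj⟩ := (Nat.dvd_prime_pow Nat.prime_two).1 (orderOf_dvd_of_pow_eq_one
      (x := (⟨x, hx⟩ : modelC)) (Subtype.ext (by simpa using hk) : (⟨x, hx⟩ : modelC) ^ 2 ^ k = 1))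
    exact IsPGroup.of_card (n := j) (by rw [Nat.card_zpowers, hj])
  obtain ⟨P, hP⟩ := hp.exists_le_sylow
  obtain ⟨g, hg⟩ := MulAction.exists_smul_eq modelC P S
  have hy : g * ⟨x, hx⟩ * g⁻¹ ∈ (tail 0).subgroupOf modelC := by
    have h : ((g • P : Sylow 2 modelC) : Subgroup modelC) = (tail 0).subgroupOf modelC := by rw [hg]; rfl
    rw [← h]
    exact Subgroup.mem_map.2 ⟨_, hP (Subgroup.mem_zpowers _), rfl⟩
  rw [Subgroup.mem_subgroupOf, Subgroup.coe_mul, Subgroup.coe_mul, Subgroup.coe_inv] at hy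
  obtain ⟨l, hl, e⟩ := tail_words 10 le_rfl _ hy
  exact ⟨g, g.2, l, hl, e⟩

theorem fix_conj {a x : Equiv.Perm (Fin 276)} :
    (Finset.univ.filter fun i => (a * x * a⁻¹) i = i).card = (Finset.univ.filter fun i => x i = i).card :=
  Finset.card_equiv a.symm fun i => by simp [Equiv.symm_apply_eq, Equiv.Perm.inv_def, eq_comm]

theorem fixPts_eq {e : Elt} (h : validElt 9 276 e = true) :
    fixPts e = (Finset.univ.filter fun i => toPerm 9 276 e i = i).card := by
  unfold fixPts
  congr 1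
  refine Finset.filter_congr fun i _ => ?_
  rw [(rep_toPerm h i).1, Fin.ext_iff]

/-- The two classes differ. -/
theorem not_conj_u_w {a : Equiv.Perm (Fin 276)} : a * uPerm * a⁻¹ ≠ wPerm := by
  intro h
  have := fix_conj (a := a) (x := uPerm)
  rw [h] at this
  exact fix_ne (by rw [fixPts_eq c_ok.2.2, fixPts_eq fus_valid.2.1]; exact this.symm)

/-- An involution of the model other than the central one is conjugate to one of the representatives. -/
theorem model_invol {x : Equiv.Perm (Fin 276)} (hx : x ∈ modelC) (h2 : x * x = 1) (h1 : x ≠ 1) (ht : x ≠ tPerm) :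
    ∃ a ∈ modelC, a * x * a⁻¹ = uPerm ∨ a * x * a⁻¹ = wPerm := by
  obtain ⟨g, hg, l, hl, e⟩ := exists_conj_tail hx (k := 1) (by rw [pow_one, pow_two, h2])
  have hc := List.all_eq_true.1 class_ok l hl
  simp only [chkClass, Bool.or_eq_true, List.any_eq_true, Bool.and_eq_true] at hc
  have hll : pS l * pS l = 1 := by rw [← e, conj_mul, h2, mul_one, mul_inv_cancel]
  have main : ∀ (r : Equiv.Perm (Fin 276)) (R : Elt), r ∈ modelC → (∀ i : Fin 276, ((r i : Fin 276) : ℕ) = get 9 R.1 i) →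
      ∀ d : List ℕ, onBase (fun p => Nat.beq (evS l (evC d p)) (evC d (get 9 R.1 p))) = true →
        (pG 9 276 cCodes d)⁻¹ * g * x * ((pG 9 276 cCodes d)⁻¹ * g)⁻¹ = r := by
    intro r R hr hR d hd
    have h : pS l * pG 9 276 cCodes d = pG 9 276 cCodes d * r :=
      eq_of_onBase (f := fun p => evS l (evC d p)) (g := fun p => evC d (get 9 R.1 p))
        (mul_mem (pS_mem _) (pG_mem_modelC _)) (mul_mem (pG_mem_modelC _) hr)
        (fun i => by rw [Equiv.Perm.mul_apply, pS_apply, pC_apply])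
        (fun i => by rw [Equiv.Perm.mul_apply, pC_apply, hR]) hd
    calc (pG 9 276 cCodes d)⁻¹ * g * x * ((pG 9 276 cCodes d)⁻¹ * g)⁻¹
        = (pG 9 276 cCodes d)⁻¹ * (g * x * g⁻¹ * pG 9 276 cCodes d) := by group
      _ = r := by rw [e, h, inv_mul_cancel_left]
  rcases hc with ((⟨p, hp, hne⟩ | h) | h) | ⟨en, -, -, h⟩
  · refine absurd (show pS (l ++ l) = 1 by rw [pS, pG_append]; exact hll)
      (ne_of_anyBase (g := id) (pS_apply _) one_apply' (List.any_eq_true.2 ⟨p, hp, hne⟩))
  · exact absurd (conj_eq_one_iff.1 (e.trans (eq_of_onBase (g := id) (pS_mem _) (one_mem _) (pS_apply _) one_apply' h))) h1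
  · refine absurd ?_ ht
    have := e.trans (eq_of_onBase (pS_mem _) tPerm_mem (pS_apply _) t_apply h)
    calc x = g⁻¹ * (g * x * g⁻¹) * g := by group
      _ = g⁻¹ * (g * tPerm) := by rw [this, mul_assoc, ← tPerm_central hg]
      _ = tPerm := by group
  · refine ⟨(pG 9 276 cCodes en.2.2)⁻¹ * g, mul_mem (inv_mem (pG_mem_modelC _)) hg, ?_⟩
    rcases h with ⟨-, h⟩ | h
    · exact Or.inl (main uPerm uCode uPerm_mem u_apply _ h)
    · exact Or.inr (main wPerm wCode wPerm_mem w_apply _ h)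

/-- The second class consists of no squares. -/
theorem not_square {y : Equiv.Perm (Fin 276)} (hy : y ∈ modelC) : y * y ≠ wPerm := by
  intro hyw
  obtain ⟨g, hg, l, hl, e⟩ := exists_conj_tail hy (k := 2) (by
    rw [show (2 : ℕ) ^ 2 = 2 * 2 by norm_num, pow_mul, pow_two, pow_two, hyw, wPerm_sq])
  have hc := List.all_eq_true.1 sq_ok l hl
  simp only [chkSq, Bool.or_eq_true, List.any_eq_true, Bool.and_eq_true] at hc
  have hll : pS (l ++ l) = g * wPerm * g⁻¹ := by
    rw [pS, pG_append]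
    show pS l * pS l = _
    rw [← e, conj_mul, hyw]
  rcases hc with ((h | h) | ⟨p, hp, hne⟩) | ⟨en, -, -, h⟩
  · exact wPerm_ne_one (conj_eq_one_iff.1
      (hll.symm.trans (eq_of_onBase (g := id) (pS_mem _) (one_mem _) (pS_apply _) one_apply' h)))
  · refine wPerm_ne_t ?_
    have := hll.symm.trans (eq_of_onBase (pS_mem _) tPerm_mem (pS_apply _) t_apply h)
    calc wPerm = g⁻¹ * (g * wPerm * g⁻¹) * g := by group
      _ = g⁻¹ * (g * tPerm) := by rw [this, mul_assoc, ← tPerm_central hg]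
      _ = tPerm := by group
  · refine absurd (show pS (l ++ l ++ (l ++ l)) = 1 by
        rw [pS, pG_append]
        show pS (l ++ l) * pS (l ++ l) = 1
        rw [hll, conj_mul, wPerm_sq, mul_one, mul_inv_cancel])
      (ne_of_anyBase (g := id) (pS_apply _) one_apply' (List.any_eq_true.2 ⟨p, hp, hne⟩))
  · have h' : pS (l ++ l) * pG 9 276 cCodes en.2 = pG 9 276 cCodes en.2 * uPerm :=
      eq_of_onBase (f := fun p => evS (l ++ l) (evC en.2 p)) (g := fun p => evC en.2 (get 9 uCode.1 p))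
        (mul_mem (pS_mem _) (pG_mem_modelC _)) (mul_mem (pG_mem_modelC _) uPerm_mem)
        (fun i => by rw [Equiv.Perm.mul_apply, pS_apply, pC_apply])
        (fun i => by rw [Equiv.Perm.mul_apply, pC_apply, u_apply]) h
    refine not_conj_u_w (a := g⁻¹ * pG 9 276 cCodes en.2) ?_
    calc g⁻¹ * pG 9 276 cCodes en.2 * uPerm * (g⁻¹ * pG 9 276 cCodes en.2)⁻¹
        = g⁻¹ * (pG 9 276 cCodes en.2 * uPerm * (pG 9 276 cCodes en.2)⁻¹) * g := by group
      _ = wPerm := by rw [← h', mul_inv_cancel_right, hll]; group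

end Cfsg.Agent.CoThreeSp6
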