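import Cfsg.Agent.Lib.CoThreeSp6.GenData
import Cfsg.Agent.Lib.CoThreeSp6.Big.Tab
import Cfsg.Agent.Lib.McLTwoA8.Whole.Tab

/-!
The eight generators: seven from the centraliser of an involution, and an involution outside of it.
-/

set_option autoImplicit false
set_option maxRecDepth 100000
set_option Elab.async false

namespace Cfsg.Agent.CoThreeSp6

open Cfsg.Agent.PermCert

/-- The generators in the model. -/
noncomputable def genM (x : ℕ) : Equiv.Perm (Fin 276) :=
  if x < 7 then toPerm 9 276 (cCodes.getD x (one 9 276)) else if x = 7 then toPerm 9 276 sCode else 1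

theorem cCodes_length : cCodes.length = 7 := by decide +kernel

theorem genM_mem {x : ℕ} (h : x < 7) : genM x ∈ modelC := by
  rw [genM, if_pos h, List.getD_eq_getElem _ _ (cCodes_length ▸ h)]
  exact Subgroup.subset_closure (List.mem_map.2 ⟨_, List.getElem_mem _, rfl⟩)

/-- An identification of the centraliser of an involution with the model, and a further involution. -/
structure Setup (G : Type*) [Group G] (t : G) where
  φ : Subgroup.centralizer ({t} : Set G) ≃* modelC
  s : G
  s_sq : s * s = 1

/-- The generators in the group. -/
noncomputable def Setup.gen {G : Type*} [Group G] {t : G} (S : Setup G t) (x : ℕ) : G :=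
  if h : x < 7 then (S.φ.symm ⟨genM x, genM_mem h⟩ : G) else if x = 7 then S.s else 1

/-- The name, among the eight, of a generator of the McL enumeration. -/
def mclLoc (x : ℕ) : ℕ := bif Nat.beq x 6 then 7 else x

/-- The relators of the two enumerations. -/
def allRels : List (List ℕ) := McLTwoA8.Whole.base.map (List.map mclLoc) ++ Big.base

/-- The relators hold. -/
def Setup.Relators {G : Type*} [Group G] {t : G} (S : Setup G t) : Prop :=
  ∀ w ∈ allRels, CosetCert.wprod S.gen w = 1

end Cfsg.Agent.CoThreeSp6
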