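import Cfsg.Agent.Lib.CoThreeSp6.RelsCheck
import Cfsg.Agent.Lib.CoThreeSp6.CVModel
import Cfsg.Agent.Lib.McLTwoA8.Kill

/-!
The relators of the coset enumerations hold in a group in which the centraliser of an involution is the double
cover of the symplectic group and an involution exchanges it with its partner.
-/

set_option autoImplicit false
set_option maxRecDepth 100000
set_option Elab.async false

namespace Cfsg.Agent.CoThreeSp6

open Cfsg Cfsg.Agent.PermCert Cfsg.Agent.SporPerm
open Cfsg.Agent.McLInvol (fwd_comp fwd_id eq_of_fwd)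
open Cfsg.Agent.CosetCert (wprod rep wordEq eq_of_wordEq tact Params)
open Cfsg.Agent.PermAut (Fwd fwd_rep)

noncomputable section

attribute [local irreducible] cCodes sCode tCode uCode eCodes fCodes leftTab wordTab baseTab invTab cvCands
  Big.base McLTwoA8.Whole.base LevelE.base LevelF.base genGroup toPerm cvPerm eElts fElts co3Levels co3Gens

theorem genCode_facts (x : ℕ) :
    validElt 9 276 (genCode x) = true ∧ genM x = toPerm 9 276 (genCode x) ∨ genM x = 1 ∧ genCode x = one 9 276 := by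
  by_cases h7 : x < 7
  · refine Or.inl ⟨?_, ?_⟩
    · have := allBelow_spec _ _ genCode_valid x (by omega)
      rw [Bool.and_eq_true] at this
      exact this.1
    · rw [genM, if_pos h7, genCode, Nat.blt_eq.mpr h7, cond_true]
  · have e : Nat.blt x 7 = false := by rw [← Bool.not_eq_true, Nat.blt_eq]; exact h7
    by_cases h8 : x = 7
    · subst h8
      refine Or.inl ⟨?_, ?_⟩
      · have := allBelow_spec _ _ genCode_valid 7 (by omega)
        rw [Bool.and_eq_true] at this
        exact this.1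
      · rw [genM, if_neg h7, if_pos rfl, genCode, e, cond_false, Nat.beq_refl, cond_true]
    · have e2 : Nat.beq x 7 = false := by rw [← Bool.not_eq_true, Nat.beq_eq]; exact h8
      exact Or.inr ⟨by rw [genM, if_neg h7, if_neg h8], by rw [genCode, e, cond_false, e2, cond_false]⟩

theorem rep_genCode (x : ℕ) : Rep 9 (genCode x) (genM x) := by
  rcases genCode_facts x with ⟨h1, h2⟩ | ⟨h1, h2⟩
  · rw [h2]; exact rep_toPerm h1
  · rw [h1, h2]; exact rep_one (by norm_num)

theorem genM_seven : genM 7 = sPt := by rw [genM, if_neg (by omega), if_pos rfl]; rfl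

theorem genM_mem3 (x : ℕ) : genM x ∈ MG3 := by
  by_cases h7 : x < 7
  · exact modelC_le (genM_mem h7)
  · by_cases h8 : x = 7
    · subst h8; rw [genM_seven]; exact sPt_mem
    · rw [genM, if_neg h7, if_neg h8]; exact one_mem _

theorem genM_square (x : ℕ) : genM x * genM x = 1 := by
  by_cases hx : x < 8
  · have := allBelow_spec _ _ genCode_valid x (by omega)
    rw [Bool.and_eq_true, Nat.beq_eq] at this
    exact fwd_eq (fwd_comp (fwd_rep (rep_genCode x)) (fwd_rep (rep_genCode x))) (fwd_id (by norm_num)) this.2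
  · rw [genM, if_neg (by omega), if_neg (by omega), one_mul]

theorem wprod_cons {M : Type*} [Group M] (g : ℕ → M) (x : ℕ) (w : List ℕ) : wprod g (x :: w) = g x * wprod g w := by
  simp [wprod]

theorem wprod_append' {M : Type*} [Group M] (g : ℕ → M) (u v : List ℕ) :
    wprod g (u ++ v) = wprod g u * wprod g v := by simp [wprod]

theorem wprod_rep {M : Type*} [Group M] (g : ℕ → M) (u : List ℕ) : ∀ k, wprod g (rep k u) = wprod g u ^ k
  | 0 => by rw [pow_zero]; rfl
  | k + 1 => by rw [rep, wprod_append', wprod_rep g u k, pow_succ']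

theorem wprod_shape {M : Type*} [Group M] (g : ℕ → M) (x : ℕ) (u v : List ℕ) :
    wprod g (x :: u ++ x :: v) = g x * wprod g u * g x * wprod g v := by
  rw [List.cons_append, wprod_cons, wprod_append', wprod_cons]; group

theorem rep_codes (l : List ℕ) : ∀ w : List ℕ,
    Rep 9 (wordC (l.map genCode) w) (wprod (fun x => genM (l.getD x 8)) w)
  | [] => rep_one (by norm_num)
  | x :: w => by
    have e : (l.map genCode).getD x (one 9 276) = genCode (l.getD x 8) := by
      rw [List.getD_eq_getElem?_getD, List.getD_eq_getElem?_getD, List.getElem?_map]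
      cases l[x]? with
      | none => rfl
      | some y => rfl
    show Rep 9 (PermCert.mul 9 276 ((l.map genCode).getD x (one 9 276)) (wordC (l.map genCode) w)) _
    rw [e, wprod_cons]
    exact rep_mul (rep_genCode _) (rep_codes l w)

theorem rep_lev (L : Lev) (w : List ℕ) : Rep 9 (wordC L.codes w) (wprod (fun x => genM (L.loc x)) w) :=
  rep_codes L.emb w

theorem eq_one_of_trivialWord {gens : List Elt} {w : List ℕ} {σ : Equiv.Perm (Fin 276)}
    (h : trivialWord gens w = true) (hr : Rep 9 (wordC gens w) σ) : σ = 1 :=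
  fwd_eq (fwd_rep hr) (fwd_id (by norm_num)) (Nat.eq_of_beq_eq_true h)

theorem below_iff {n : ℕ} {w : List ℕ} : below n w = true ↔ ∀ x ∈ w, x < n := by
  simp [below, List.all_eq_true]

theorem comp_swap {a b : ℕ} {α β : Equiv.Perm (Fin 276)} (ha : Fwd 9 (a, α)) (hb : Fwd 9 (b, β))
    (h : α * β = β * α) : comp 9 276 a b = comp 9 276 b a := by
  refine pack_congr 9 276 fun i hi => ?_
  rw [show get 9 b i = (β ⟨i, hi⟩ : ℕ) from hb ⟨i, hi⟩, show get 9 a i = (α ⟨i, hi⟩ : ℕ) from ha ⟨i, hi⟩,
    show get 9 a (β ⟨i, hi⟩ : ℕ) = (α (β ⟨i, hi⟩) : ℕ) from ha _,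
    show get 9 b (α ⟨i, hi⟩ : ℕ) = (β (α ⟨i, hi⟩) : ℕ) from hb _, ← Equiv.Perm.mul_apply, h]
  rfl

variable {G : Type*} [Group G] {t : G} (S : Setup G t)

/-- The image in the group of a model element. -/
def Setup.lift (σ : modelC) : G := (S.φ.symm σ : G)

theorem Setup.lift_mul (σ τ : modelC) : S.lift (σ * τ) = S.lift σ * S.lift τ := by
  rw [Setup.lift, map_mul, Subgroup.coe_mul]; rfl

theorem Setup.lift_one : S.lift 1 = 1 := by rw [Setup.lift, map_one, Subgroup.coe_one]

theorem Setup.gen_low {x : ℕ} (h : x < 7) : S.gen x = S.lift ⟨genM x, genM_mem h⟩ := by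
  rw [Setup.gen, dif_pos h]; rfl

theorem Setup.gen_seven : S.gen 7 = S.s := by rw [Setup.gen, dif_neg (by omega), if_pos rfl]

theorem Setup.gen_sq (x : ℕ) : S.gen x * S.gen x = 1 := by
  by_cases h : x < 7
  · rw [S.gen_low h, ← S.lift_mul,
      show (⟨genM x, genM_mem h⟩ : modelC) * ⟨genM x, genM_mem h⟩ = 1 from Subtype.ext (genM_square x), S.lift_one]
  · rw [Setup.gen, dif_neg h]
    by_cases h7 : x = 7
    · rw [if_pos h7]; exact S.s_sq
    · rw [if_neg h7, one_mul]

/-- A word in the generators of the centraliser. -/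
theorem Setup.word_low {loc : ℕ → ℕ} (w : List ℕ) (hw : ∀ x ∈ w, loc x < 7) :
    ∃ h : wprod (fun x => genM (loc x)) w ∈ modelC, wprod (fun x => S.gen (loc x)) w = S.lift ⟨_, h⟩ := by
  induction w with
  | nil => exact ⟨one_mem _, S.lift_one.symm⟩
  | cons x w ih =>
    obtain ⟨h, e⟩ := ih fun y hy => hw y (List.mem_cons_of_mem _ hy)
    have hx := hw x (List.mem_cons_self ..)
    refine ⟨by rw [wprod_cons]; exact mul_mem (genM_mem hx) h, ?_⟩
    rw [wprod_cons, e, S.gen_low hx, ← S.lift_mul]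
    exact congrArg S.lift (Subtype.ext (wprod_cons (fun x => genM (loc x)) x w).symm)

/-- The element numbered `a`. -/
def Setup.el (a : ℕ) : G := if h : a < 4608 then S.lift ⟨cvPerm a, cvPerm_mem h⟩ else 1

theorem Setup.el_eq {a : ℕ} (h : a < 4608) : S.el a = S.lift ⟨cvPerm a, cvPerm_mem h⟩ := dif_pos h

theorem Setup.el_inj {a b : ℕ} (ha : a < 4608) (hb : b < 4608) (h : S.el a = S.el b) : a = b := by
  rw [S.el_eq ha, S.el_eq hb] at h
  exact cvPerm_inj ha hb (congrArg Subtype.val (S.φ.symm.injective (Subtype.ext h)))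

/-- The table in the group. -/
def Setup.copy : Copy G where
  el := S.el
  left j a hj ha := by
    rw [S.el_eq ha, S.el_eq sel_G, S.el_eq (leftI_lt hj ha), ← S.lift_mul]
    refine congrArg S.lift (Subtype.ext ?_)
    show cvPerm (sel cvG j) * cvPerm a = cvPerm (leftI j a)
    rw [cvPerm_gen hj]
    exact cvPerm_left hj ha
  one := by
    rw [S.el_eq (by norm_num : (0 : ℕ) < 4608),
      show (⟨cvPerm 0, cvPerm_mem (by norm_num)⟩ : modelC) = 1 from Subtype.ext cvPerm_one, S.lift_one]
  inj _ _ := S.el_inj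

/-- The conditions on a setup: the central involution and the action of the further involution. -/
structure Setup.Normal : Prop where
  el_t : S.el cvT = t
  conj : ∀ a, a < 4608 → agree a = true → S.s * S.el a * S.s = S.el (imI cvB a)
  card : Nat.card modelC = 2903040

theorem cvB_lt {j : ℕ} (hj : j < 3) : sel cvB j < 4608 := by interval_cases j <;> decide +kernel

theorem imI_cvB_lt {a : ℕ} (ha : a < 4608) : imI cvB a < 4608 := imI_lt (fun _ hj => cvB_lt hj) ha

/-- A level with its facts. -/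
structure Lev.Good (L : Lev) : Prop where
  conj_ok : levConj L = true
  base_ok : levBase L = true
  elem : ∃ B C, Elem (L.elts.map Prod.fst) B C

variable {L : Lev}

theorem Lev.Good.loc_facts (hL : L.Good) :
    L.loc 5 = 7 ∧ (∀ x, x < 5 → L.loc x < 7) ∧ ∀ x, 6 ≤ x → L.loc x = 8 := by
  have h := hL.conj_ok
  simp only [levConj, Bool.and_eq_true, Nat.beq_eq] at h
  refine ⟨h.1.1.1.2, fun x hx => Nat.blt_eq.mp (CosetCert.allBelow_spec h.1.1.2 hx), fun x hx => ?_⟩
  rw [Lev.loc, List.getD_eq_default _ _ (by omega)]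

theorem Lev.Good.outside (hL : L.Good) {x : ℕ} (hx : 6 ≤ x) : S.gen (L.loc x) = 1 ∧ genM (L.loc x) = 1 := by
  rw [hL.loc_facts.2.2 x hx]
  exact ⟨by rw [Setup.gen, dif_neg (by omega), if_neg (by omega)], by rw [genM, if_neg (by omega), if_neg (by omega)]⟩

theorem Lev.Good.elt_facts (hL : L.Good) {e : ℕ × Elt} (he : e ∈ L.elts) :
    e.1 < 4608 ∧ Fwd 9 (e.2.1, cvPerm e.1) ∧ agree e.1 = true := by
  have h := hL.conj_ok
  simp only [levConj, Bool.and_eq_true, List.all_eq_true, Nat.blt_eq] at h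
  obtain ⟨⟨⟨hlt, hin⟩, hrow⟩, hag⟩ := h.1.2 e he
  have hf := fwd_toPerm (inCo3_mem hin).1
  exact ⟨hlt, eq_cvPerm (inCo3_mem hin).2 hf hlt hrow ▸ hf, hag⟩

/-- A generator of the level keeps the elementary group, compatibly with the model. -/
theorem step_elem (hN : S.Normal) (hL : L.Good) (x : ℕ) {e : ℕ × Elt} (he : e ∈ L.elts) :
    ∃ f ∈ L.elts, genM (L.loc x) * cvPerm e.1 * genM (L.loc x) = cvPerm f.1 ∧
      S.gen (L.loc x) * S.el e.1 * S.gen (L.loc x) = S.el f.1 := by
  by_cases hx : x < 6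
  swap
  · obtain ⟨h1, h2⟩ := hL.outside S (x := x) (by omega)
    exact ⟨e, he, by rw [h2, one_mul, mul_one], by rw [h1, one_mul, mul_one]⟩
  have h := hL.conj_ok
  simp only [levConj, Bool.and_eq_true] at h
  obtain ⟨f, hf, hfe⟩ := List.any_eq_true.1 (List.all_eq_true.1 (CosetCert.allBelow_spec h.2 hx) e he)
  obtain ⟨hlt, hfwd, hag⟩ := hL.elt_facts he
  obtain ⟨hft, hffwd, -⟩ := hL.elt_facts hf
  have hM : genM (L.loc x) * cvPerm e.1 * genM (L.loc x) = cvPerm f.1 :=
    fwd_eq (fwd_comp (fwd_comp (fwd_rep (rep_genCode _)) hfwd) (fwd_rep (rep_genCode _))) hffwd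
      (Nat.eq_of_beq_eq_true hfe)
  refine ⟨f, hf, hM, ?_⟩
  by_cases h7 : L.loc x < 7
  · rw [S.gen_low h7, S.el_eq hlt, S.el_eq hft, ← S.lift_mul, ← S.lift_mul]
    exact congrArg S.lift (Subtype.ext hM)
  · have hx5 : x = 5 := by
      by_contra hne
      exact h7 (hL.loc_facts.2.1 x (by omega))
    subst hx5
    rw [hL.loc_facts.1] at hM ⊢
    rw [genM_seven, sPt_conj hlt] at hM
    rw [S.gen_seven, hN.conj e.1 hlt hag, cvPerm_inj (imI_cvB_lt hlt) hft hM]

/-- A word of the level keeps the elementary group, compatibly with the model. -/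
theorem word_elem (hN : S.Normal) (hL : L.Good) : ∀ (w : List ℕ) {e : ℕ × Elt}, e ∈ L.elts → ∃ f ∈ L.elts,
    wprod (fun x => genM (L.loc x)) w * cvPerm e.1 * (wprod (fun x => genM (L.loc x)) w)⁻¹ = cvPerm f.1 ∧
      wprod (fun x => S.gen (L.loc x)) w * S.el e.1 * (wprod (fun x => S.gen (L.loc x)) w)⁻¹ = S.el f.1
  | [], e, he => ⟨e, he, by simp [wprod], by simp [wprod]⟩
  | x :: w, e, he => by
    obtain ⟨f, hf, h1, h2⟩ := word_elem hN hL w he
    obtain ⟨g, hg, h3, h4⟩ := step_elem S hN hL x hf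
    refine ⟨g, hg, ?_, ?_⟩
    · rw [wprod_cons, mul_inv_rev, inv_eq_of_mul_eq_one_right (genM_square (L.loc x)), ← h3, ← h1]
      group
    · rw [wprod_cons, mul_inv_rev, inv_eq_of_mul_eq_one_right (S.gen_sq (L.loc x)), ← h4, ← h2]
      group

/-- A fixed-point-free element of the level has the order it has in the model. -/
theorem power_rel (hN : S.Normal) (hL : L.Good) (u : List ℕ) (k : ℕ)
    (hfree : ∀ e ∈ L.elts, cvPerm e.1 * wprod (fun x => genM (L.loc x)) u =
      wprod (fun x => genM (L.loc x)) u * cvPerm e.1 → e.1 = 0)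
    (hk : wprod (fun x => genM (L.loc x)) (rep k u) = 1) : wprod (fun x => S.gen (L.loc x)) (rep k u) = 1 := by
  obtain ⟨B, C, hE⟩ := hL.elem
  set g := wprod (fun x => S.gen (L.loc x)) (rep k u) with hg
  have hcomm : ∀ e ∈ L.elts, g * S.el e.1 = S.el e.1 * g := by
    intro e he
    obtain ⟨f, hf, h1, h2⟩ := word_elem S hN hL (rep k u) he
    rw [hk, one_mul, inv_one, mul_one] at h1
    rw [← cvPerm_inj (hL.elt_facts he).1 (hL.elt_facts hf).1 h1] at h2
    exact mul_inv_eq_iff_eq_mul.1 h2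
  have hcomm' : ∀ e ∈ L.elts.map Prod.fst, g * S.el e = S.el e * g := by
    intro e he
    obtain ⟨q, hq, rfl⟩ := List.mem_map.1 he
    exact hcomm q hq
  have hgt : g * t = t * g := by rw [← hN.el_t]; exact hcomm' _ hE.t_mem
  set c : Subgroup.centralizer ({t} : Set G) := ⟨g, Subgroup.mem_centralizer_singleton_iff.2 hgt⟩ with hc
  have hlift : g = S.lift (S.φ c) := by rw [Setup.lift, MulEquiv.symm_apply_apply]
  have hcm : ∀ e ∈ L.elts.map Prod.fst,
      ((S.φ c : modelC) : Equiv.Perm (Fin 276)) * cvPerm e = cvPerm e * (S.φ c : modelC) := by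
    intro e he
    have h := hcomm' e he
    rw [hlift, S.el_eq (hE.lt e he), ← S.lift_mul, ← S.lift_mul] at h
    exact congrArg Subtype.val (S.φ.symm.injective (Subtype.ext h))
  obtain ⟨a, ha, hae⟩ := exists_cvPerm hN.card (S.φ c).2 (by rw [← cv_special.2]; exact hcm _ hE.u_mem)
  have haE : a ∈ L.elts.map Prod.fst := hE.self_centralising a ha fun e he => by
    have h := hcm e he
    rwa [← hae] at h
  obtain ⟨q, hq, rfl⟩ := List.mem_map.1 haE
  have hga : g = S.el q.1 := by
    rw [hlift, S.el_eq ha]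
    exact congrArg S.lift (Subtype.ext hae.symm)
  obtain ⟨f, hf, h1, h2⟩ := word_elem S hN hL u hq
  rw [← hga] at h2
  have hfix : wprod (fun x => S.gen (L.loc x)) u * g * (wprod (fun x => S.gen (L.loc x)) u)⁻¹ = g := by
    rw [hg, wprod_rep, ← pow_succ', pow_succ, mul_inv_cancel_right]
  rw [hfix, hga] at h2
  have hfa : q.1 = f.1 := S.el_inj ha (hL.elt_facts hf).1 h2
  rw [← hfa] at h1
  have h0 := hfree q hq (mul_inv_eq_iff_eq_mul.1 h1).symm
  rw [hga, h0]
  exact S.copy.one

/-- The relators of a level hold. -/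
theorem level_base (hN : S.Normal) (hL : L.Good) {w : List ℕ} (hw : w ∈ L.base) :
    wprod (fun x => S.gen (L.loc x)) w = 1 ∧ wprod (fun x => genM (L.loc x)) w = 1 := by
  have h := List.all_eq_true.1 hL.base_ok w hw
  simp only [Bool.and_eq_true, Bool.or_eq_true] at h
  obtain ⟨⟨htriv, -⟩, hcases⟩ := h
  have hm := eq_one_of_trivialWord htriv (rep_lev L w)
  refine ⟨?_, hm⟩
  have low : ∀ {v : List ℕ}, below 5 v = true → ∀ x ∈ v, L.loc x < 7 := fun hv x hx =>
    hL.loc_facts.2.1 x (below_iff.1 hv x hx)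
  rcases hcases with (h5 | hc) | hp
  · obtain ⟨hh, e⟩ := S.word_low w (low h5)
    rw [e, show (⟨_, hh⟩ : modelC) = 1 from Subtype.ext hm, S.lift_one]
  · obtain ⟨q, -, hq⟩ := List.any_eq_true.1 hc
    simp only [Bool.and_eq_true, Nat.blt_eq] at hq
    obtain ⟨⟨⟨⟨⟨hwe, hu⟩, hv⟩, hq2⟩, hcode⟩, hag⟩ := hq
    have hwe' := eq_of_wordEq hwe
    subst hwe'
    obtain ⟨hU, eU⟩ := S.word_low q.1 (low hu)
    obtain ⟨hV, eV⟩ := S.word_low q.2.1 (low hv)
    have hUc : wprod (fun x => genM (L.loc x)) q.1 = cvPerm q.2.2 :=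
      eq_cvPerm (modelC_le hU) (fwd_rep (rep_lev L q.1)) hq2 hcode
    rw [wprod_shape, hL.loc_facts.1, genM_seven, hUc, sPt_conj hq2] at hm
    rw [wprod_shape, hL.loc_facts.1, eU,
      show (⟨_, hU⟩ : modelC) = ⟨cvPerm q.2.2, cvPerm_mem hq2⟩ from Subtype.ext hUc, ← S.el_eq hq2, S.gen_seven,
      hN.conj _ hq2 hag, S.el_eq (imI_cvB_lt hq2), eV, ← S.lift_mul,
      show (⟨cvPerm (imI cvB q.2.2), cvPerm_mem (imI_cvB_lt hq2)⟩ : modelC) * ⟨_, hV⟩ = 1 from Subtype.ext hm,
      S.lift_one]
  · obtain ⟨q, -, hq⟩ := List.any_eq_true.1 hp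
    rw [Bool.and_eq_true] at hq
    have hwe := eq_of_wordEq hq.1
    subst hwe
    refine power_rel S hN hL q.1 q.2 (fun e he hcomm => ?_) hm
    have h := List.all_eq_true.1 hq.2 e he
    simp only [Bool.or_eq_true, Nat.beq_eq, Bool.not_eq_true'] at h
    refine h.resolve_right fun hne => ?_
    rw [comp_swap (fwd_rep (rep_lev L q.1)) (hL.elt_facts he).2.1 hcomm.symm] at hne
    simp at hne

/-- The graph of the identification. -/
def Setup.graph : Subgroup (G × Equiv.Perm (Fin 276)) :=
  ((Subgroup.centralizer ({t} : Set G)).subtype.prod (modelC.subtype.comp S.φ.toMonoidHom)).range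

theorem Setup.lift_mem_graph (σ : modelC) : (S.lift σ, (σ : Equiv.Perm (Fin 276))) ∈ S.graph :=
  ⟨S.φ.symm σ, Prod.ext rfl (congrArg Subtype.val (S.φ.apply_symm_apply σ))⟩

theorem Setup.graph_spec {p : G × Equiv.Perm (Fin 276)} (hp : p ∈ S.graph) (h2 : p.2 = 1) : p.1 = 1 := by
  obtain ⟨c, rfl⟩ := hp
  have h : (S.φ c : modelC) = 1 := Subtype.ext h2
  rw [EmbeddingLike.map_eq_one_iff] at h
  subst h
  rfl

/-- The wanted words of a level hold. -/
theorem wanted_rel (hN : S.Normal) (hL : L.Good) {P : Params} {ws : List (List ℕ)} (hws : wantedOK L P ws = true)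
    (hsubs : subsOK P = true) {hints : List (ℕ × ℕ × Bool)}
    (hrots : CosetCert.rotsOK L.base P.rots.entries hints = true) {tree : List ℕ} {phases : List CosetCert.Phase}
    (hcert : CosetCert.checkCert P 15 tree phases = true) (htab : CosetCert.tableOK P 15 = true)
    {v : List ℕ} (hv : v ∈ ws) : wprod (fun x => S.gen (L.loc x)) v = 1 := by
  simp only [wantedOK, Bool.and_eq_true, Nat.beq_eq] at hws
  have h := List.all_eq_true.1 hws.2 v hv
  simp only [Bool.and_eq_true, Nat.beq_eq] at h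
  obtain ⟨⟨hlt, h0⟩, htriv⟩ := h
  refine McLTwoA8.word_kill (P := P) (m := fun x => genM (L.loc x)) (fun x => S.gen_sq _) (fun x => genM_square _)
    (fun x hx => hL.outside S (by omega)) (fun w hw => level_base S hN hL hw) hrots S.graph
    (fun p hp => S.graph_spec hp) (fun w hw => ?_) hcert htab (by norm_num) (by rw [hws.1]; exact hlt) h0
    (eq_one_of_trivialWord htriv (rep_lev L v))
  obtain ⟨hh, e⟩ := S.word_low w fun x hx => hL.loc_facts.2.1 x (below_iff.1 (List.all_eq_true.1 hsubs w hw) x hx)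
  rw [e]
  exact S.lift_mem_graph ⟨_, hh⟩

theorem levE_good : levE.Good := ⟨levE_conj, levE_base, _, _, elts_lists.1 ▸ elemE⟩

theorem levF_good : levF.Good := ⟨levF_conj, levF_base, _, _, elts_lists.2 ▸ elemF⟩

theorem relators_of_normal (hN : S.Normal) : S.Relators := by
  intro w hw
  have h := List.all_eq_true.1 all_ok w hw
  simp only [Bool.or_eq_true, Bool.and_eq_true, List.any_eq_true] at h
  have hmap : ∀ (L : Lev) (v : List ℕ), wprod S.gen (v.map L.loc) = wprod (fun x => S.gen (L.loc x)) v :=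
    fun L v => by simp [wprod, List.map_map, Function.comp_def]
  rcases h with (⟨h7, htriv⟩ | ⟨v, hv, e⟩) | ⟨v, hv, e⟩
  · obtain ⟨hh, e⟩ := S.word_low (loc := fun x => x) w (below_iff.1 h7)
    have hr := rep_codes (List.range 7) w
    have hcongr : wprod (fun x => genM ((List.range 7).getD x 8)) w = wprod (fun x => genM x) w := by
      unfold wprod
      refine congrArg List.prod (List.map_congr_left fun x hx => ?_)
      rw [List.getD_eq_getElem _ _ (by simpa using below_iff.1 h7 x hx), List.getElem_range]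
    have h1 : wprod (fun x => genM x) w = 1 := hcongr ▸ eq_one_of_trivialWord htriv hr
    show wprod (fun x => S.gen x) w = 1
    rw [e, show (⟨_, hh⟩ : modelC) = 1 from Subtype.ext h1, S.lift_one]
  · rw [← eq_of_wordEq e, hmap]
    exact wanted_rel S hN levE_good eWanted_ok eSubs_ok LevelE.rots_ok LevelE.cert_ok LevelE.tab_ok hv
  · rw [← eq_of_wordEq e, hmap]
    exact wanted_rel S hN levF_good fWanted_ok fSubs_ok LevelF.rots_ok LevelF.cert_ok LevelF.tab_ok hv

/-- An involution exchanging the central involution and its partner can be chosen to give all the relators. -/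
theorem exists_relators {G : Type*} [Group G] (t : G) (hcard : Nat.card modelC = 2903040)
    (φ : Subgroup.centralizer ({t} : Set G) ≃* modelC) (s : G) (ct cu : Subgroup.centralizer ({t} : Set G))
    (hct : (ct : G) = t) (hφt : ((φ ct : modelC) : Equiv.Perm (Fin 276)) = toPerm 9 276 tCode)
    (hφu : ((φ cu : modelC) : Equiv.Perm (Fin 276)) = toPerm 9 276 uCode) (hs : s * s = 1)
    (hst : s * t * s = (cu : G)) : ∃ S : Setup G t, S.φ = φ ∧ S.Relators := by
  let S₀ : Setup G t := ⟨φ, s, hs⟩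
  obtain ⟨hPT, hPU⟩ := cv_special
  have hT := named_lt.2.2.2.1
  have hU := named_lt.2.2.2.2
  have elT : S₀.el cvT = t := by
    rw [S₀.el_eq hT, show (⟨cvPerm cvT, cvPerm_mem hT⟩ : modelC) = φ ct from Subtype.ext (hPT.trans hφt.symm),
      Setup.lift, MulEquiv.symm_apply_apply, hct]
  have elU : S₀.el cvU = cu := by
    rw [S₀.el_eq hU, show (⟨cvPerm cvU, cvPerm_mem hU⟩ : modelC) = φ cu from Subtype.ext (hPU.trans hφu.symm),
      Setup.lift, MulEquiv.symm_apply_apply]
  have hsu : s * (cu : G) * s = t := by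
    rw [← hst, show s * (s * t * s) * s = (s * s) * t * (s * s) by group, hs, one_mul, mul_one]
  have hnorm : ∀ a, a < 4608 → ∃ b, b < 4608 ∧ s * S₀.el a * s = S₀.el b := by
    intro a ha
    set g := S₀.el a with hg
    have hcT : g * t = t * g := by
      rw [← elT, hg, S₀.el_eq ha, S₀.el_eq hT, ← S₀.lift_mul, ← S₀.lift_mul]
      refine congrArg S₀.lift (Subtype.ext ?_)
      show cvPerm a * cvPerm cvT = cvPerm cvT * cvPerm a
      rw [hPT]
      exact (cvPerm_comm ha).1
    have hcU : g * (cu : G) = cu * g := by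
      rw [← elU, hg, S₀.el_eq ha, S₀.el_eq hU, ← S₀.lift_mul, ← S₀.lift_mul]
      refine congrArg S₀.lift (Subtype.ext ?_)
      show cvPerm a * cvPerm cvU = cvPerm cvU * cvPerm a
      rw [hPU]
      exact (cvPerm_comm ha).2
    set d := s * g * s with hd
    have hsi : s⁻¹ = s := inv_eq_of_mul_eq_one_right hs
    have hdt : d * t = t * d := by
      calc d * t = s * g * (s * t * s) * s⁻¹ := by rw [hd]; group
        _ = s * (g * (cu : G)) * s := by rw [hst, hsi]; group
        _ = s * ((cu : G) * g) * s := by rw [hcU]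
        _ = (s * (cu : G) * s) * (s⁻¹ * g * s) := by group
        _ = t * d := by rw [hsu, hsi]
    have hdu : d * (cu : G) = cu * d := by
      calc d * (cu : G) = s * g * (s * (cu : G) * s) * s⁻¹ := by rw [hd]; group
        _ = s * (g * t) * s := by rw [hsu, hsi]; group
        _ = s * (t * g) * s := by rw [hcT]
        _ = (s * t * s) * (s⁻¹ * g * s) := by group
        _ = cu * d := by rw [hst, hsi]
    set c : Subgroup.centralizer ({t} : Set G) := ⟨d, Subgroup.mem_centralizer_singleton_iff.2 hdt⟩ with hc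
    obtain ⟨b, hb, hbe⟩ := exists_cvPerm hcard (φ c).2 (by
      have h1 : c * cu = cu * c := Subtype.ext hdu
      have h2 := congrArg (fun x => ((φ x : modelC) : Equiv.Perm (Fin 276))) h1
      simp only [map_mul, Subgroup.coe_mul, hφu] at h2
      exact h2)
    refine ⟨b, hb, ?_⟩
    rw [S₀.el_eq hb, show (⟨cvPerm b, cvPerm_mem hb⟩ : modelC) = φ c from Subtype.ext hbe, Setup.lift,
      MulEquiv.symm_apply_apply]
  obtain ⟨im, k, hk, s', hs', hall⟩ := exists_normal S₀.copy s hs hnorm (by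
    show s * S₀.el cvT * s = S₀.el cvU
    rw [elT, hst, elU])
  refine ⟨⟨φ, s', hs'⟩, rfl, relators_of_normal _ ⟨elT, fun a ha hag => ?_, hcard⟩⟩
  have h := List.all_eq_true.1 hag _ hk
  rw [show S₀.el = Setup.el (⟨φ, s', hs'⟩ : Setup G t) from rfl] at *
  exact (hall a ha).trans (congrArg _ (Nat.eq_of_beq_eq_true h))

end

end Cfsg.Agent.CoThreeSp6
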