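import Cfsg.Agent.Lib.CoThreeSp6.RelsData
import Cfsg.Agent.Lib.CoThreeSp6.CVDefs
import Cfsg.Agent.Lib.CoThreeSp6.Gens
import Cfsg.Agent.Lib.CoThreeSp6.LevelE.Cert
import Cfsg.Agent.Lib.CoThreeSp6.LevelF.Cert

/-! Kernel checks that the relators have the stated forms. -/

set_option autoImplicit false
set_option maxRecDepth 100000
set_option Elab.async false

namespace Cfsg.Agent.CoThreeSp6

open Cfsg.Agent.PermCert
open Cfsg.Agent.CosetCert (wordEq rep tact Params)

noncomputable section

/-- The code of a generator. -/
def genCode (x : ℕ) : Elt :=
  bif Nat.blt x 7 then cCodes.getD x (one 9 276) else bif Nat.beq x 7 then sCode else one 9 276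

/-- A level: the names of its six generators, its elementary group, its relators and their reasons. -/
structure Lev where
  emb : List ℕ
  elts : List (ℕ × Elt)
  base : List (List ℕ)
  conj : List (List ℕ × List ℕ × ℕ)
  power : List (List ℕ × ℕ)

/-- The name of a letter. -/
def Lev.loc (L : Lev) (x : ℕ) : ℕ := L.emb.getD x 8

/-- The codes of the generators of a level. -/
def Lev.codes (L : Lev) : List Elt := L.emb.map genCode

/-- The first level. -/
def levE : Lev := ⟨[0, 1, 2, 3, 6, 7], eElts, LevelE.base, eConj, ePower⟩

/-- The second level. -/
def levF : Lev := ⟨[0, 1, 4, 5, 6, 7], fElts, LevelF.base, fConj, fPower⟩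

/-- The word is trivial in the model. -/
def trivialWord (gens : List Elt) (w : List ℕ) : Bool := Nat.beq (wordC gens w).1 (idCode 9 276)

/-- All letters are below a bound. -/
def below (n : ℕ) (w : List ℕ) : Bool := w.all fun x => Nat.blt x n

/-- The candidates act on an element as the model involution does. -/
def agree (a : ℕ) : Bool :=
  cvCands.all fun
    | (im, .good c) => Nat.beq (goodImage im c a) (imI cvB a)
    | (_, .bad) => true

/-- The codes of the elementary group belong to its elements, and the generators keep it. -/
def levConj (L : Lev) : Bool :=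
  Nat.beq L.emb.length 6 && Nat.beq (L.loc 5) 7 && CosetCert.allBelow (fun x => Nat.blt (L.loc x) 7) 5 &&
    L.elts.all (fun e => Nat.blt e.1 4608 && inCo3 e.2 && rowIs e.2.1 e.1 && agree e.1) &&
    CosetCert.allBelow (fun x => L.elts.all fun e => L.elts.any fun f =>
      Nat.beq (comp 9 276 (comp 9 276 (genCode (L.loc x)).1 e.2.1) (genCode (L.loc x)).1) f.2.1) 6

/-- Each relator is trivial in the model and has one of the three forms. -/
def levBase (L : Lev) : Bool :=
  L.base.all fun w => trivialWord L.codes w && below 6 w &&
    (below 5 w ||
      L.conj.any (fun q => wordEq w (5 :: q.1 ++ 5 :: q.2.1) && below 5 q.1 && below 5 q.2.1 && Nat.blt q.2.2 4608 &&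
        rowIs (wordC L.codes q.1).1 q.2.2 && agree q.2.2) ||
      L.power.any (fun q => wordEq w (rep q.2 q.1) && L.elts.all fun e => Nat.beq e.1 0 ||
        !Nat.beq (comp 9 276 (wordC L.codes q.1).1 e.2.1) (comp 9 276 e.2.1 (wordC L.codes q.1).1)))

/-- The wanted words of a level. -/
def wantedOK (L : Lev) (P : Params) (ws : List (List ℕ)) : Bool :=
  Nat.beq P.k 6 && ws.all fun v => below 6 v && Nat.beq (tact P v 0) 0 && trivialWord L.codes v

/-- The relators come from the centraliser or a level. -/
def allOK : Bool :=
  allRels.all fun w =>
    (below 7 w && trivialWord ((List.range 7).map genCode) w) ||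
      eWanted.any (fun v => wordEq (v.map levE.loc) w) || fWanted.any (fun v => wordEq (v.map levF.loc) w)

/-- The subgroup words are single letters below five. -/
def subsOK (P : Params) : Bool := P.subs.all (below 5)

theorem levE_conj : levConj levE = true := by decide +kernel
theorem levF_conj : levConj levF = true := by decide +kernel
theorem levE_base : levBase levE = true := by decide +kernel
theorem levF_base : levBase levF = true := by decide +kernel
theorem elts_lists : levE.elts.map Prod.fst = cvE ∧ levF.elts.map Prod.fst = cvF := by decide +kernel
theorem eWanted_ok : wantedOK levE LevelE.P eWanted = true := by decide +kernel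
theorem fWanted_ok : wantedOK levF LevelF.P fWanted = true := by decide +kernel
theorem eSubs_ok : subsOK LevelE.P = true := by decide +kernel
theorem fSubs_ok : subsOK LevelF.P = true := by decide +kernel
theorem all_ok : allOK = true := by decide +kernel
theorem genCode_valid : (PermCert.allBelow (fun x => validElt 9 276 (genCode x) &&
    Nat.beq (comp 9 276 (genCode x).1 (genCode x).1) (idCode 9 276)) 9) = true := by decide +kernel

end

end Cfsg.Agent.CoThreeSp6
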