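import Cfsg.Agent.Lib.CoThreeSp6.SixData

/-! The Schreier condition for one generator of the top level. -/

set_option autoImplicit false
set_option maxRecDepth 100000

namespace Cfsg.Agent.CoThreeSp6

open Cfsg.Agent.PermCert

/-- The Schreier condition of the top level for the generator at position `k`. -/
def sixSch (k : ℕ) : Bool :=
  sixLevel0.2.2.all fun t =>
    match sixLevel0.2.2.find? (fun t' => Nat.beq t'.1 (get 9 (sixLevel0.2.1.getD k (one 9 276)).1 t.1)) with
    | none => false
    | some t' => sift 9 276 [sixLevel1, sixLevel2]
        (comp 9 276 t'.2.1.2 (comp 9 276 (sixLevel0.2.1.getD k (one 9 276)).1 t.2.1.1))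

end Cfsg.Agent.CoThreeSp6
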