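import Cfsg.Agent.Lib.CoThreeSp6.SixDefs

/-! Kernel checks of the Schreier condition. -/

set_option autoImplicit false
set_option maxRecDepth 100000
set_option Elab.async false

namespace Cfsg.Agent.CoThreeSp6

theorem sixSch_0 : sixSch 0 = true := by decide +kernel
theorem sixSch_1 : sixSch 1 = true := by decide +kernel
theorem sixSch_2 : sixSch 2 = true := by decide +kernel
theorem sixSch_3 : sixSch 3 = true := by decide +kernel
theorem sixSch_4 : sixSch 4 = true := by decide +kernel
theorem sixSch_5 : sixSch 5 = true := by decide +kernel
theorem sixSch_6 : sixSch 6 = true := by decide +kernel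
theorem sixSch_7 : sixSch 7 = true := by decide +kernel
theorem sixSch_8 : sixSch 8 = true := by decide +kernel

end Cfsg.Agent.CoThreeSp6
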