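import Cfsg.Agent.Lib.CoThreeSp6.BetaDefs

/-! Four second images over a first representative. -/

set_option autoImplicit false

namespace Cfsg.Agent.CoThreeSp6

/-- The triples over a block of four second representatives. -/
noncomputable def triplePart (k m : ℕ) : Bool :=
  ((List.drop (4 * m) (cvReps.getD k (0, [])).2).take 4).all fun b =>
    cvSix.all fun c => tripleOK ((cvReps.getD k (0, [])).1, b, c)

end Cfsg.Agent.CoThreeSp6
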